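import Cfsg.Agent.Lib.M22Six.Core
import Cfsg.Agent.Lib.J4Module.Lines
import Cfsg.Agent.Lib.J4Module.Gens
import Cfsg.Agent.Lib.GridBlock.OfReps
import Mathlib.GroupTheory.GroupAction.Quotient

/-!
The action of the centraliser of the involution on its two-core modulo the centre: it keeps the orbit of 693 vectors
and so the lines of `x`.
-/

set_option autoImplicit false
set_option maxRecDepth 20000
set_option linter.style.haveILetI false
set_option linter.unusedSectionVars false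

namespace Cfsg.Agent.M22Six.Cfg

open Subgroup
open Cfsg.Agent.LargeFischer (Ctx QG VQ mkV mkV_surjective)
open Cfsg.Agent.LargeExtra (coreAt coreAt_le coreAt_normal mem_centralizer_one)
open Cfsg.Agent.J4Module (gen Rep IsModel)

variable {G : Type*} [Group G] [Finite G] (K : Cfg G)

/-- The two-core inside the centraliser of `z`. -/
abbrev Q : Subgroup ↥(centralizer ({K.z} : Set G)) := Cfsg.pCore 2 ↥(centralizer ({K.z} : Set G))

theorem QG_eq : QG K.Q = K.E := rfl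

theorem ctx (F : Facts) : Ctx K.z K.Q := by
  refine ⟨LargeExtra.XSLocal.of_core K.hz (K.E_extraspecial F) K.z_mem_E (coreAt_le K.z) (fun c hc => K.core
    (mem_inf.2 ⟨mem_centralizer_one.2 (mem_centralizer_iff.1 hc K.z K.z_mem_E).symm, hc⟩)) (coreAt_normal K.z),
    ?_, fun c hc hcomm => K.core (mem_inf.2 ⟨hc, mem_centralizer_iff.2 fun x hx => (hcomm x hx).symm⟩)⟩
  rw [show Nat.card ↥(QG K.Q) = Nat.card K.E from rfl, (K.core_card F).2.1]
  norm_num

/-- `x` in the centraliser of `z`. -/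
def xH : ↥(centralizer ({K.z} : Set G)) := ⟨K.x, K.x_mem⟩

theorem xH3 : K.xH ^ 3 = 1 := Subtype.ext K.x3

theorem comm_xH {c : ↥(centralizer ({K.z} : Set G))} (hc : Commute (c : G) K.x) : Commute c K.xH :=
  Subtype.ext hc.eq

/-- An element centralising `x` over a given element of M22. -/
def Lift (m : ↥Cfsg.Spor.M22) (c : ↥(centralizer ({K.z} : Set G))) : Prop :=
  ∃ hc : Commute (c : G) K.x, K.π ⟨c, K.mem_C.2 hc⟩ = m

theorem exists_lift (m : ↥Cfsg.Spor.M22) : ∃ c, K.Lift m c := by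
  obtain ⟨n, hn⟩ := K.π_surj m
  exact ⟨⟨n, K.C_le (K.mem_C.1 n.2)⟩, K.mem_C.1 n.2, hn⟩

theorem lift_mul {m m' : ↥Cfsg.Spor.M22} {c c' : ↥(centralizer ({K.z} : Set G))}
    (h : K.Lift m c) (h' : K.Lift m' c') : K.Lift (m * m') (c * c') := by
  obtain ⟨hc, e⟩ := h
  obtain ⟨hc', e'⟩ := h'
  refine ⟨hc.mul_left hc', ?_⟩
  rw [← e, ← e', ← map_mul]
  rfl

theorem lift_inv {m : ↥Cfsg.Spor.M22} {c : ↥(centralizer ({K.z} : Set G))}
    (h : K.Lift m c) : K.Lift m⁻¹ c⁻¹ := by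
  obtain ⟨hc, e⟩ := h
  refine ⟨hc.inv_left, ?_⟩
  rw [← e, ← map_inv]
  rfl

theorem lift_x : K.Lift 1 K.xH :=
  ⟨Commute.refl _, (K.π_ker _).2 ⟨1, 0, by simp [xH]⟩⟩

theorem lift_one : K.Lift 1 1 :=
  ⟨Commute.one_left _, (K.π_ker _).2 ⟨0, 0, by simp⟩⟩

theorem lift_pow {m : ↥Cfsg.Spor.M22} {c : ↥(centralizer ({K.z} : Set G))}
    (h : K.Lift m c) : ∀ k : ℕ, K.Lift (m ^ k) (c ^ k)
  | 0 => by simpa using K.lift_one
  | k + 1 => by rw [pow_succ, pow_succ]; exact K.lift_mul (lift_pow h k) h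

section

variable (h : Ctx K.z K.Q)
include h

/-- The scalar. -/
noncomputable abbrev pi1 : Equiv.Perm (VQ K.Q) := h.rhoC K.xH

theorem pi1_cube : K.pi1 h ^ 3 = 1 := by rw [← map_pow, K.xH3, map_one]

theorem pi1_pow_mod (k : ℕ) : K.pi1 h ^ k = K.pi1 h ^ (k % 3) := pow_eq_pow_mod k (K.pi1_cube h)

theorem pi1_fpf {v : VQ K.Q} (hv : K.pi1 h v = v) : v = 0 := by
  obtain ⟨a, rfl⟩ := mkV_surjective v
  have h1 : mkV (h.conjQ K.xH a) = mkV a := hv
  rw [eq_comm, h.mkV_eq_iff] at h1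
  have e : (h.conjQ K.xH a : G) = K.x * a * K.x⁻¹ := rfl
  rw [e] at h1
  rw [h.mkV_eq_zero]
  rcases h1 with h1 | h1
  · exact K.E_cent a.2 (show Commute K.x (a : G) from mul_inv_eq_iff_eq_mul.1 h1).symm
  · exfalso
    have hxz : ∀ b : G, K.x * (b * K.z) * K.x⁻¹ = K.x * b * K.x⁻¹ * K.z := fun b => by
      rw [show K.x * (b * K.z) * K.x⁻¹ = K.x * b * K.x⁻¹ * (K.x * K.z * K.x⁻¹) by group,
        mul_inv_eq_iff_eq_mul.2 K.xz.eq]
    have : (a : G) = a * K.z := by
      calc (a : G) = K.x ^ 3 * a * (K.x ^ 3)⁻¹ := by rw [K.x3]; group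
        _ = K.x * (K.x * (K.x * a * K.x⁻¹) * K.x⁻¹) * K.x⁻¹ := by rw [pow_succ, pow_two]; group
        _ = a * K.z * (K.z * K.z) := by rw [h1, hxz, h1, hxz, hxz, h1, mul_assoc, mul_assoc]
        _ = a * K.z := by rw [K.zz, mul_one]
    exact h.xs.ne_mul_z _ this

theorem pi1_ne : K.pi1 h ≠ 1 := fun e1 => by
  have h0 : ∀ v : VQ K.Q, v = 0 := fun v => K.pi1_fpf h (by rw [e1]; rfl)
  haveI : Subsingleton (VQ K.Q) := ⟨fun a b => by rw [h0 a, h0 b]⟩
  have := h.card_VQ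
  rw [Nat.card_of_subsingleton (0 : VQ K.Q)] at this
  omega

theorem pi1_order : orderOf (K.pi1 h) = 3 := orderOf_eq_prime (K.pi1_cube h) (K.pi1_ne h)

theorem rho_z {c : ↥(centralizer ({K.z} : Set G))} {j : ℕ} (e : (c : G) = K.z ^ j) : h.rhoC c = 1 := by
  have hcQ : (c : G) ∈ QG K.Q := e ▸ pow_mem K.z_mem_E j
  obtain ⟨c', hc', e'⟩ := hcQ
  exact Subtype.ext e' ▸ MonoidHom.mem_ker.1 (h.rhoC_Q hc')

theorem rho_lift_one {c : ↥(centralizer ({K.z} : Set G))} (hl : K.Lift 1 c) :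
    ∃ i < 3, h.rhoC c = K.pi1 h ^ i := by
  obtain ⟨hc, e⟩ := hl
  obtain ⟨i, j, e'⟩ := (K.π_ker _).1 e
  refine ⟨i % 3, Nat.mod_lt _ (by norm_num), ?_⟩
  let cz : ↥(centralizer ({K.z} : Set G)) := ⟨K.z ^ j, pow_mem (mem_centralizer_one.2 rfl) j⟩
  rw [show c = K.xH ^ i * cz from Subtype.ext e', map_mul, map_pow, K.rho_z h (c := cz) (j := j) rfl, mul_one]
  exact K.pi1_pow_mod h i

theorem eq_of_rho {m m' : ↥Cfsg.Spor.M22} {c c' : ↥(centralizer ({K.z} : Set G))}
    (hl : K.Lift m c) (hl' : K.Lift m' c') (e : h.rhoC c = h.rhoC c') : m = m' := by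
  obtain ⟨hc, hd⟩ := K.lift_mul (K.lift_inv hl) hl'
  have hQ : c⁻¹ * c' ∈ K.Q := by
    rw [← h.rhoC_ker, MonoidHom.mem_ker, map_mul, map_inv, e, inv_mul_cancel]
  have h1 := K.E_cent (show ((c⁻¹ * c' : ↥(centralizer ({K.z} : Set G))) : G) ∈ K.E from ⟨_, hQ, rfl⟩) hc
  have : K.π ⟨_, K.mem_C.2 hc⟩ = 1 := by
    rcases h1 with e1 | e1
    · exact (K.π_ker _).2 ⟨0, 0, by simpa using e1⟩
    · exact (K.π_ker _).2 ⟨0, 1, by simpa using e1⟩
  rw [hd] at this
  exact inv_mul_eq_one.1 this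

theorem rho_pi1_comm {m : ↥Cfsg.Spor.M22} {c : ↥(centralizer ({K.z} : Set G))} (hl : K.Lift m c) :
    Commute (h.rhoC c) (K.pi1 h) :=
  (K.comm_xH hl.1).map h.rhoC

theorem exists_lift_order {m : ↥Cfsg.Spor.M22} {n k : ℕ} (hm : m ^ n = 1) (hk : (n * k + 1) % 3 = 0) :
    ∃ c, K.Lift m c ∧ h.rhoC c ^ n = 1 := by
  obtain ⟨c, hc⟩ := K.exists_lift m
  obtain ⟨i, -, hi⟩ := K.rho_lift_one h (hm ▸ K.lift_pow hc n)
  refine ⟨c * K.xH ^ (k * i), by simpa using K.lift_mul hc (K.lift_pow K.lift_x (k * i)), ?_⟩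
  rw [map_mul, map_pow, ((K.rho_pi1_comm h hc).pow_right _).mul_pow, ← map_pow h.rhoC c n, hi, ← pow_mul, ← pow_add,
    K.pi1_pow_mod h, show (i + k * i * n) % 3 = ((n * k + 1) * i) % 3 by ring_nf, Nat.mul_mod, hk, zero_mul,
    Nat.zero_mod, pow_zero]

/-- The action of an element as an additive map. -/
noncomputable def addHom (c : ↥(centralizer ({K.z} : Set G))) : VQ K.Q →+ VQ K.Q :=
  AddMonoidHom.mk' (h.rhoC c) (h.rhoC_add c)

theorem iterate_addHom (c : ↥(centralizer ({K.z} : Set G))) (k : ℕ) (w : VQ K.Q) :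
    (K.addHom h c)^[k] w = (h.rhoC c ^ k) w := by
  rw [Equiv.Perm.coe_pow]; rfl

/-- Relations between lifts hold without a scalar when the orders forbid one. -/
theorem rel_exact {m : ↥Cfsg.Spor.M22} {c d : ↥(centralizer ({K.z} : Set G))} (hc : K.Lift m c) (hd : K.Lift m d)
    {n : ℕ} (hn : n % 3 ≠ 0) (ec : h.rhoC c ^ n = 1) (ed : h.rhoC d ^ n = 1) : h.rhoC c = h.rhoC d := by
  obtain ⟨i, hi, e⟩ := K.rho_lift_one h (inv_mul_cancel m ▸ K.lift_mul (K.lift_inv hd) hc)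
  rw [map_mul, map_inv, inv_mul_eq_iff_eq_mul] at e
  have h1 : K.pi1 h ^ (i * n) = 1 := by
    have h0 := ec
    rwa [e, ((K.rho_pi1_comm h hd).pow_right i).mul_pow, ed, one_mul, ← pow_mul] at h0
  have h3 : 3 ∣ i * n := K.pi1_order h ▸ orderOf_dvd_of_pow_eq_one h1
  rcases (Nat.prime_three.dvd_mul.1 h3) with h0 | h0
  · rw [e, Nat.eq_zero_of_dvd_of_lt h0 hi, pow_zero, mul_one]
  · exact absurd (Nat.mod_eq_zero_of_dvd h0) hn

/-- The lifts of the three generators, in coordinates. -/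
theorem exists_model : ∃ (a b c : ↥(centralizer ({K.z} : Set G))) (l : List (VQ K.Q)),
    K.Lift (gen 0) a ∧ K.Lift (gen 1) b ∧ K.Lift (gen 2) c ∧
      IsModel (K.addHom h K.xH) (K.addHom h a) (K.addHom h b) (K.addHom h c) l := by
  obtain ⟨a, ha, ea⟩ := K.exists_lift_order h (n := 11) (k := 1) J4Module.gen_pow11 (by norm_num)
  obtain ⟨b, hb, eb⟩ := K.exists_lift_order h (n := 5) (k := 1) J4Module.gen_pow5 (by norm_num)
  obtain ⟨c, hc, ec⟩ := K.exists_lift_order h (n := 4) (k := 2) J4Module.gen_pow4 (by norm_num)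
  have hsq : ∀ w, K.addHom h K.xH (K.addHom h K.xH w) = (K.pi1 h ^ 2) w := fun w => rfl
  have hba : h.rhoC b * h.rhoC a = h.rhoC a ^ 3 * h.rhoC b := by
    have h0 := K.rel_exact h (n := 11) (c := b * a * b⁻¹) (d := a ^ 3)
      (K.lift_mul (K.lift_mul hb ha) (K.lift_inv hb))
      (by rw [J4Module.gen_yx, mul_inv_cancel_right]; exact K.lift_pow ha 3) (by norm_num)
      (by rw [map_mul, map_mul, map_inv, conj_pow, ea, mul_one, mul_inv_cancel])
      (by rw [map_pow, ← pow_mul, mul_comm, pow_mul, ea, one_pow])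
    rwa [map_mul, map_mul, map_inv, map_pow, mul_inv_eq_iff_eq_mul] at h0
  have hcb : h.rhoC c * h.rhoC b = h.rhoC b ^ 2 * h.rhoC c := by
    have h0 := K.rel_exact h (n := 5) (c := c * b * c⁻¹) (d := b ^ 2)
      (K.lift_mul (K.lift_mul hc hb) (K.lift_inv hc))
      (by rw [J4Module.gen_fy, mul_inv_cancel_right]; exact K.lift_pow hb 2) (by norm_num)
      (by rw [map_mul, map_mul, map_inv, conj_pow, eb, mul_one, mul_inv_cancel])
      (by rw [map_pow, ← pow_mul, mul_comm, pow_mul, eb, one_pow])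
    rwa [map_mul, map_mul, map_inv, map_pow, mul_inv_eq_iff_eq_mul] at h0
  have R : Rep (K.addHom h K.xH) (K.addHom h a) (K.addHom h b) (K.addHom h c) := by
    refine ⟨h.card_VQ, h.two, fun w => ?_, fun w => ?_, fun w => ?_, fun w => ?_, fun w => ?_, ?_,
      fun w => ?_, fun w => ?_, fun w => ?_, fun w => ?_, fun w => ?_⟩
    · refine K.pi1_fpf h ?_
      show K.addHom h K.xH (K.addHom h K.xH (K.addHom h K.xH w) + K.addHom h K.xH w + w) = _
      rw [map_add, map_add, show K.addHom h K.xH (K.addHom h K.xH (K.addHom h K.xH w)) = (K.pi1 h ^ 3) w from rfl,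
        K.pi1_cube h, Equiv.Perm.one_apply]
      abel
    · exact (Equiv.Perm.ext_iff.1 (K.rho_pi1_comm h ha).eq w).symm
    · exact (Equiv.Perm.ext_iff.1 (K.rho_pi1_comm h hb).eq w).symm
    · exact (Equiv.Perm.ext_iff.1 (K.rho_pi1_comm h hc).eq w).symm
    · rw [K.iterate_addHom h, ea]; rfl
    · by_contra hall
      push Not at hall
      refine J4Module.gen_ne_one (K.eq_of_rho h ha K.lift_one ?_)
      rw [map_one]
      exact Equiv.ext hall
    · rw [K.iterate_addHom h, eb]; rfl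
    · rw [K.iterate_addHom h]
      exact Equiv.Perm.ext_iff.1 hba w
    · rw [K.iterate_addHom h, ec]; rfl
    · rw [K.iterate_addHom h]
      exact Equiv.Perm.ext_iff.1 hcb w
    · have hl := K.lift_pow (K.lift_mul ha hc) 11
      rw [J4Module.gen_word11] at hl
      obtain ⟨i, hi, e⟩ := K.rho_lift_one h hl
      have h0 : ((K.addHom h a) ∘ (K.addHom h c))^[11] w = (K.pi1 h ^ i) w := by
        rw [show (⇑(K.addHom h a) ∘ ⇑(K.addHom h c)) = ⇑(K.addHom h (a * c)) from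
          funext fun v => (Equiv.Perm.ext_iff.1 (map_mul h.rhoC a c) v).symm, K.iterate_addHom h, ← map_pow, e]
      rw [h0]
      interval_cases i
      · exact Or.inl rfl
      · exact Or.inr (Or.inl rfl)
      · exact Or.inr (Or.inr (hsq w).symm)
  obtain ⟨l, M⟩ := R.exists_model
  exact ⟨a, b, c, l, ha, hb, hc, M⟩

variable {a b c : ↥(centralizer ({K.z} : Set G))} {l : List (VQ K.Q)}

/-- The centraliser of `x` keeps the orbit of 693 vectors. -/
theorem C_keeps (ha : K.Lift (gen 0) a) (hb : K.Lift (gen 1) b) (hc : K.Lift (gen 2) c)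
    (M : IsModel (K.addHom h K.xH) (K.addHom h a) (K.addHom h b) (K.addHom h c) l)
    {d : ↥(centralizer ({K.z} : Set G))} (hd : Commute (d : G) K.x) {w : VQ K.Q} (hw : w ∈ M.orbit 0) :
    h.rhoC d w ∈ M.orbit 0 := by
  classical
  let ι : ↥(centralizer ({K.x} : Set G)) →* ↥(centralizer ({K.z} : Set G)) :=
    inclusion fun _ hd => K.C_le (K.mem_C.1 hd)
  have hiff : ∀ σ : Equiv.Perm (VQ K.Q), (∀ v ∈ M.orbit 0, σ v ∈ M.orbit 0) →
      ∀ v, σ v ∈ M.orbit 0 ↔ v ∈ M.orbit 0 := by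
    intro σ hσ v
    refine ⟨fun hv => ?_, hσ v⟩
    have heq : σ '' M.orbit 0 = M.orbit 0 :=
      Set.eq_of_subset_of_ncard_le (by rintro _ ⟨u, hu, rfl⟩; exact hσ u hu)
        (by rw [Set.ncard_image_of_injective _ σ.injective]) (Set.toFinite _)
    obtain ⟨u, hu, e⟩ := heq.ge hv
    exact σ.injective e ▸ hu
  let St : Subgroup ↥(centralizer ({K.x} : Set G)) :=
    { carrier := {d | ∀ v, h.rhoC (ι d) v ∈ M.orbit 0 ↔ v ∈ M.orbit 0}
      one_mem' := fun v => by rw [map_one, map_one]; rfl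
      mul_mem' := fun {d e} hd he v => by
        rw [map_mul, map_mul, Equiv.Perm.mul_apply]
        exact (hd _).trans (he v)
      inv_mem' := fun {d} hd v => by
        have := hd ((h.rhoC (ι d))⁻¹ v)
        rw [← Equiv.Perm.mul_apply, mul_inv_cancel, Equiv.Perm.one_apply] at this
        rw [map_inv, map_inv]
        exact this.symm }
  have hgen : ∀ i, ∃ e : ↥(centralizer ({K.x} : Set G)), e ∈ St ∧ K.π e = gen i := by
    intro i
    fin_cases i
    · exact ⟨⟨a, K.mem_C.2 ha.1⟩, hiff _ fun v hv => (M.orbit_closed 0 hv).1, ha.2⟩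
    · exact ⟨⟨b, K.mem_C.2 hb.1⟩, hiff _ fun v hv => (M.orbit_closed 0 hv).2.1, hb.2⟩
    · exact ⟨⟨c, K.mem_C.2 hc.1⟩, hiff _ fun v hv => (M.orbit_closed 0 hv).2.2, hc.2⟩
  have hxS : (⟨K.x, K.mem_C.2 (Commute.refl _)⟩ : ↥(centralizer ({K.x} : Set G))) ∈ St := by
    refine hiff _ ?_
    rintro _ ⟨n, hn, hT, rfl⟩
    obtain ⟨h1, h2, -⟩ := J4Module.Lines.scalar_pts n hn hT
    rcases M.hp with hp | hp
    · exact ⟨_, J4Module.col_lt n hn _ (by simp), h1, (hp n).symm⟩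
    · exact ⟨_, J4Module.col_lt n hn _ (by simp), h2, (hp n).symm⟩
  have hmap : St.map K.π = ⊤ := by
    rw [← top_le_iff, ← J4Module.gen_closure, closure_le]
    rintro _ ⟨i, rfl⟩
    obtain ⟨e, he, hi⟩ := hgen i
    exact ⟨e, he, hi⟩
  have hker : K.π.ker ≤ St := by
    intro e he
    obtain ⟨i, j, e'⟩ := (K.π_ker e).1 he
    intro v
    let cz : ↥(centralizer ({K.z} : Set G)) := ⟨K.z ^ j, pow_mem (mem_centralizer_one.2 rfl) j⟩
    rw [show ι e = ι (⟨K.x, K.mem_C.2 (Commute.refl _)⟩ ^ i) * cz from Subtype.ext e', map_mul,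
      K.rho_z h (c := cz) (j := j) rfl, mul_one]
    exact pow_mem hxS i v
  obtain ⟨e, he, e'⟩ := (hmap ▸ mem_top (K.π ⟨d, K.mem_C.2 hd⟩) : K.π ⟨d, K.mem_C.2 hd⟩ ∈ St.map K.π)
  have hmem : (⟨d, K.mem_C.2 hd⟩ : ↥(centralizer ({K.x} : Set G))) ∈ St := by
    have h1 : e⁻¹ * ⟨d, K.mem_C.2 hd⟩ ∈ St := hker (by
      rw [MonoidHom.mem_ker, map_mul, map_inv, e', inv_mul_cancel])
    have := mul_mem he h1
    rwa [mul_inv_cancel_left] at this
  exact (hmem w).2 hw

theorem qV_not_const : ¬ ∀ u v : VQ K.Q, u ≠ 0 → v ≠ 0 → Ctx.qV u = Ctx.qV v := by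
  intro hall
  haveI : Finite (VQ K.Q) := Nat.finite_of_card_ne_zero (by rw [h.card_VQ]; norm_num)
  have h0 : Ctx.qV (0 : VQ K.Q) = 0 := by
    rw [← h.mkV_eq_zero.2 (Or.inl rfl : ((1 : ↥(QG K.Q)) : G) = 1 ∨ _), h.qV_mk]
    exact if_pos (mul_one _)
  have avoid : ∀ s : Finset (VQ K.Q), s.card ≤ 5 → ∃ v, v ∉ s := fun s hs => by
    by_contra hh
    push Not at hh
    have := Nat.card_le_card_of_injective (fun v => (⟨v, hh v⟩ : {v // v ∈ s})) fun a b e => congrArg Subtype.val e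
    rw [h.card_VQ, Nat.card_eq_finsetCard] at this
    omega
  classical
  obtain ⟨u, hu⟩ := avoid {0} (by simp)
  simp only [Finset.mem_singleton] at hu
  have hq0 : ∀ v : VQ K.Q, v ≠ 0 → Ctx.qV v = 0 := by
    obtain ⟨v, hv⟩ := avoid {0, u} (Finset.card_le_two.trans (by norm_num))
    obtain ⟨w, hw⟩ := avoid {0, u, v, u + v} (Finset.card_le_four.trans (by norm_num))
    simp only [Finset.mem_insert, Finset.mem_singleton, not_or] at hv hw
    have hne : ∀ {p q : VQ K.Q}, p ≠ q → p + q ≠ 0 := fun {p q} hpq e => hpq (by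
      have := congrArg (· + q) e
      rwa [add_assoc, h.two, add_zero, zero_add] at this)
    have huvw : u + v + w ≠ 0 := hne (Ne.symm hw.2.2.2)
    have := h.b_add u v w
    rw [hall _ u huvw hu, hall _ u (hne (Ne.symm hv.2)) hu, hall w u hw.1 hu, hall _ u (hne (Ne.symm hw.2.1)) hu,
      hall v u hv.1 hu, hall _ u (hne (Ne.symm hw.2.2.1)) hu] at this
    intro v' hv'
    rw [hall v' u hv' hu]
    exact (by decide : ∀ e : ZMod 2, e + e + e = (e + e + e) + (e + e + e) → e = 0) _ this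
  have hqall : ∀ v, Ctx.qV v = (0 : ZMod 2) := fun v => by
    by_cases hv : v = 0
    · exact hv ▸ h0
    · exact hq0 v hv
  exact hu (h.nondeg u fun v => by rw [hqall, hqall, hqall, add_zero])

/-- An element of order 43 acts trivially. -/
theorem no_43 : ¬ 43 ∣ Nat.card ↥h.rhoC.range := by
  intro hd
  haveI : Fact (Nat.Prime 43) := ⟨by norm_num⟩
  obtain ⟨⟨σ, d, rfl⟩, hσ⟩ := exists_prime_orderOf_dvd_card' (G := ↥h.rhoC.range) 43 hd
  have hσ' : orderOf (h.rhoC d) = 43 := by rw [← hσ, ← Subgroup.orderOf_coe]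
  have hper : ∀ w, (K.addHom h d)^[43] w = w := fun w => by
    rw [K.iterate_addHom h, ← hσ', pow_orderOf_eq_one]; rfl
  have hmod := J4Module.periodic_modEq (fun w => K.addHom h d w) hper
  let F : AddSubgroup (VQ K.Q) := J4Module.fixX (K.addHom h d)
  have hF : Nat.card F ∣ 2 ^ 12 := by
    have := AddSubgroup.card_addSubgroup_dvd_card F
    rwa [h.card_VQ] at this
  obtain ⟨j, hj, hjc⟩ := (Nat.dvd_prime_pow Nat.prime_two).1 hF
  rw [h.card_VQ, show Nat.card {w // (fun w => K.addHom h d w) w = w} = Nat.card F from rfl, hjc] at hmod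
  have hj12 : j = 12 := by
    interval_cases j <;> simp_all [Nat.ModEq]
  have hfix : ∀ w, h.rhoC d w = w := fun w => by
    have := (AddSubgroup.card_eq_iff_eq_top F).1 (by rw [hjc, hj12, h.card_VQ]; norm_num)
    exact (show w ∈ F from this ▸ AddSubgroup.mem_top w)
  rw [Equiv.ext (g := (1 : Equiv.Perm (VQ K.Q))) hfix, orderOf_one] at hσ'
  norm_num at hσ'

/-- The centraliser of `z` keeps the orbit of 693 vectors. -/
theorem H_keeps (ha : K.Lift (gen 0) a) (hb : K.Lift (gen 1) b) (hc : K.Lift (gen 2) c)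
    (M : IsModel (K.addHom h K.xH) (K.addHom h a) (K.addHom h b) (K.addHom h c) l)
    (d : ↥(centralizer ({K.z} : Set G))) {v : VQ K.Q} (hv : v ∈ M.orbit 0) : h.rhoC d v ∈ M.orbit 0 := by
  classical
  haveI : Finite (VQ K.Q) := Nat.finite_of_card_ne_zero (by rw [h.card_VQ]; norm_num)
  let ι : ↥(centralizer ({K.x} : Set G)) →* ↥(centralizer ({K.z} : Set G)) :=
    inclusion fun _ hd => K.C_le (K.mem_C.1 hd)
  letI : MulAction ↥(centralizer ({K.z} : Set G)) (VQ K.Q) := MulAction.compHom _ h.rhoC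
  letI : MulAction ↥(centralizer ({K.x} : Set G)) (VQ K.Q) := MulAction.compHom _ (h.rhoC.comp ι)
  have hbij : ∀ e, Function.Bijective (K.addHom h e) := fun e => (h.rhoC e).bijective
  set S : Set (VQ K.Q) := MulAction.orbit ↥(centralizer ({K.z} : Set G)) v
  have hSa : ∀ (e : ↥(centralizer ({K.z} : Set G))), ∀ w ∈ S, h.rhoC e w ∈ S := fun e w hw =>
    MulAction.mem_orbit_of_mem_orbit e hw
  have hsub : ∀ k, ∀ w ∈ M.orbit k, w ∈ S → M.orbit k ⊆ S := fun k w hwk hwS =>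
    M.orbit_subset ⟨hbij a, hbij b, hbij c⟩ k (fun u hu => ⟨hSa a u hu, hSa b u hu, hSa c u hu⟩) hwS hwk
  have hvne : v ≠ 0 := by
    obtain ⟨n, hn, hT, rfl⟩ := hv
    intro e
    have := M.inj n hn 0 (by norm_num) (e.trans (J4Module.phi_zero _).symm)
    subst this
    revert hT
    decide +kernel
  have hS0 : (0 : VQ K.Q) ∉ S := by
    rintro ⟨e, he⟩
    exact hvne ((h.rhoC e).injective (he.trans (map_zero (K.addHom h e)).symm))
  have hSi : M.orbit 0 ⊆ S := hsub 0 v hv (MulAction.mem_orbit_self v)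
  -- the stabiliser in the centraliser of `x`
  have hCorb : MulAction.orbit ↥(centralizer ({K.x} : Set G)) v = M.orbit 0 := by
    refine Set.Subset.antisymm ?_ (M.orbit_subset ⟨hbij a, hbij b, hbij c⟩ 0 (fun u hu => ?_)
      (MulAction.mem_orbit_self v) hv)
    · rintro _ ⟨e, rfl⟩
      exact K.C_keeps h ha hb hc M (K.mem_C.1 e.2) hv
    · exact ⟨MulAction.mem_orbit_of_mem_orbit (⟨a, K.mem_C.2 ha.1⟩ : ↥(centralizer ({K.x} : Set G))) hu,
        MulAction.mem_orbit_of_mem_orbit (⟨b, K.mem_C.2 hb.1⟩ : ↥(centralizer ({K.x} : Set G))) hu,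
        MulAction.mem_orbit_of_mem_orbit (⟨c, K.mem_C.2 hc.1⟩ : ↥(centralizer ({K.x} : Set G))) hu⟩
  have hstC : Nat.card ↥(MulAction.stabilizer ↥(centralizer ({K.x} : Set G)) v) = 3840 := by
    have := (MulAction.stabilizer ↥(centralizer ({K.x} : Set G)) v).card_mul_index
    rw [MulAction.index_stabilizer, hCorb, M.card_orbit 0, K.card_C] at this
    rw [show J4Module.orbitSize 0 = 693 from rfl] at this
    omega
  have h3 : 3 ∣ Nat.card ↥(MulAction.stabilizer ↥(centralizer ({K.z} : Set G)) v) := by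
    refine Dvd.dvd.trans (hstC ▸ (by norm_num : 3 ∣ 3840)) ?_
    rw [← card_map_of_injective (f := ι) (inclusion_injective _)]
    refine card_dvd_of_le ?_
    rintro _ ⟨e, he, rfl⟩
    exact he
  have hidx : S.ncard * Nat.card ↥(MulAction.stabilizer ↥(centralizer ({K.z} : Set G)) v) =
      Nat.card ↥(centralizer ({K.z} : Set G)) := by
    rw [← MulAction.index_stabilizer, mul_comm]
    exact Subgroup.card_mul_index _
  have h81 : ¬ 27 ∣ S.ncard := fun h27 => K.sylow ((hidx ▸ Nat.mul_dvd_mul h27 h3 :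
    81 ∣ Nat.card ↥(centralizer ({K.z} : Set G))).trans (Subgroup.card_subgroup_dvd_card _))
  have h43 : ¬ 43 ∣ S.ncard := fun h0 => K.no_43 h (h0.trans (by
    rw [← index_ker, ← MulAction.index_stabilizer]
    refine index_dvd_of_le fun e he => ?_
    show h.rhoC e v = v
    rw [MonoidHom.mem_ker.1 he]; rfl))
  have hdisj : ∀ j k, j ≠ k → Disjoint (M.orbit j) (M.orbit k) := fun j k hjk =>
    Set.disjoint_left.2 fun w hj hk => by
      have hw : w ≠ 0 := by
        rintro rfl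
        obtain ⟨n, hn, hT, e⟩ := hj
        have := M.inj n hn 0 (by norm_num) (e.trans (J4Module.phi_zero _).symm)
        subst this
        rw [(J4Module.mask_cover 0 hn).1 rfl j] at hT
        exact absurd hT (by simp)
      exact hjk ((M.exists_unique_orbit hw).unique hj hk)
  have hcase : ∀ k, M.orbit k ⊆ S ∨ Disjoint (M.orbit k) S := fun k => by
    by_cases hd : Disjoint (M.orbit k) S
    · exact Or.inr hd
    · obtain ⟨w, hwk, hwS⟩ := Set.not_disjoint_iff.1 hd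
      exact Or.inl (hsub k w hwk hwS)
  have hcover : ∀ T : Set (VQ K.Q), T ⊆ S → (∀ k, M.orbit k ⊆ T ∨ Disjoint (M.orbit k) S) → S = T :=
    fun T hT hk => Set.Subset.antisymm (fun w hw => by
      obtain ⟨k, hwk, -⟩ := M.exists_unique_orbit (w := w) (fun e => hS0 (e ▸ hw))
      exact (hk k).elim (fun hs => hs hwk) fun hd => absurd hw (Set.disjoint_left.1 hd hwk)) hT
  have hgoal : S = M.orbit 0 := by
    rcases hcase 1 with h1 | h1 <;> rcases hcase 2 with h2 | h2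
    · exfalso
      refine K.qV_not_const h fun u w hu hw => ?_
      have hmem : ∀ u : VQ K.Q, u ≠ 0 → Ctx.qV u = Ctx.qV v := fun u hu => by
        obtain ⟨k, hk, -⟩ := M.exists_unique_orbit hu
        have hkS : u ∈ S := by
          fin_cases k
          exacts [hSi hk, h1 hk, h2 hk]
        obtain ⟨e, rfl⟩ := hkS
        exact h.qV_rhoC e v
      rw [hmem u hu, hmem w hw]
    · exfalso
      refine h81 ?_
      rw [hcover (M.orbit 0 ∪ M.orbit 1) (Set.union_subset hSi h1) (fun k => by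
        fin_cases k
        exacts [Or.inl Set.subset_union_left, Or.inl Set.subset_union_right, Or.inr h2]),
        Set.ncard_union_eq (hdisj 0 1 (by decide)) (Set.toFinite _) (Set.toFinite _), M.card_orbit, M.card_orbit]
      simp [J4Module.orbitSize]
    · exfalso
      refine h43 ?_
      rw [hcover (M.orbit 0 ∪ M.orbit 2) (Set.union_subset hSi h2) (fun k => by
        fin_cases k
        exacts [Or.inl Set.subset_union_left, Or.inr h1, Or.inl Set.subset_union_right]),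
        Set.ncard_union_eq (hdisj 0 2 (by decide)) (Set.toFinite _) (Set.toFinite _), M.card_orbit, M.card_orbit]
      simp [J4Module.orbitSize]
    · exact hcover _ hSi fun k => by
        fin_cases k
        exacts [Or.inl le_rfl, Or.inr h1, Or.inr h2]
  exact hgoal ▸ MulAction.mem_orbit v d

/-- Every element of the centraliser of `z` commutes with the scalar or inverts it. -/
theorem scalar_or (d : ↥(centralizer ({K.z} : Set G))) :
    h.rhoC d * K.pi1 h = K.pi1 h * h.rhoC d ∨ h.rhoC d * K.pi1 h = K.pi1 h ^ 2 * h.rhoC d := by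
  obtain ⟨a, b, c, l, ha, hb, hc, M⟩ := K.exists_model h
  rcases M.scalar_of_orbit h.two (K.addHom h d) (h.rhoC d).injective
      (fun w hw => K.H_keeps h ha hb hc M d hw) with e | e
  · exact Or.inl (Equiv.ext e)
  · exact Or.inr (Equiv.ext e)

/-- The centraliser of `z` is the core times the normaliser of the line of `x`. -/
theorem decomp (d : ↥(centralizer ({K.z} : Set G))) :
    (h.rhoC d * K.pi1 h = K.pi1 h * h.rhoC d ∧
      ∃ q ∈ K.Q, ∃ n : ↥(centralizer ({K.z} : Set G)), Commute (n : G) K.x ∧ d = q * n) ∨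
    (h.rhoC d * K.pi1 h = K.pi1 h ^ 2 * h.rhoC d ∧
      ∃ q ∈ K.Q, ∃ n : ↥(centralizer ({K.z} : Set G)), (n : G) * K.x * (n : G)⁻¹ = K.x ^ 2 ∧ d = q * n) := by
  have key : ∀ k : ℕ, (k = 1 ∨ k = 2) → h.rhoC d * K.pi1 h = K.pi1 h ^ k * h.rhoC d →
      ∃ q ∈ K.Q, ∃ n : ↥(centralizer ({K.z} : Set G)), (n : G) * K.x * (n : G)⁻¹ = K.x ^ k ∧ d = q * n := by
    intro k hk e
    set q0 : ↥(centralizer ({K.z} : Set G)) := d * K.xH * d⁻¹ * (K.xH ^ k)⁻¹ with hq0def
    have hq0 : q0 ∈ K.Q := by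
      rw [← h.rhoC_ker, MonoidHom.mem_ker, map_mul, map_mul, map_mul, map_inv, map_inv, map_pow, e]
      group
    have hcube : ((q0 : G) * K.x ^ k) ^ 3 = 1 := by
      rw [show (q0 : G) * K.x ^ k = (d : G) * K.x * (d : G)⁻¹ by simp [hq0def, xH], conj_pow, K.x3]
      group
    have hcop : ¬ 3 ∣ Nat.card ↥(QG K.Q) := by rw [h.card]; norm_num
    obtain ⟨n0, hn0, e0⟩ := GridBlock.exists_conj_of_mul (Q := QG K.Q) (t := K.x ^ k) (q := (q0 : G)) hcop
      (fun a ha => K.E_conj (pow_mem K.x_mem k) ha) (by rw [← pow_mul, mul_comm, pow_mul, K.x3, one_pow])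
      ⟨q0, hq0, rfl⟩ hcube
    obtain ⟨q, hq, rfl⟩ := hn0
    refine ⟨q, hq, q⁻¹ * d, ?_, by group⟩
    have e1 : (d : G) * K.x * (d : G)⁻¹ = (q : G) * K.x ^ k * (q : G)⁻¹ := by
      rw [show (d : G) * K.x * (d : G)⁻¹ = (q0 : G) * K.x ^ k by simp [hq0def, xH]]
      exact e0.symm
    calc ((q⁻¹ * d : ↥(centralizer ({K.z} : Set G))) : G) * K.x *
          ((q⁻¹ * d : ↥(centralizer ({K.z} : Set G))) : G)⁻¹
        = (q : G)⁻¹ * ((d : G) * K.x * (d : G)⁻¹) * (q : G) := by simp [mul_assoc]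
      _ = _ := by rw [e1]; group
  rcases K.scalar_or h d with e | e
  · obtain ⟨q, hq, n, hn, hd⟩ := key 1 (Or.inl rfl) (by rw [pow_one]; exact e)
    rw [pow_one] at hn
    exact Or.inl ⟨e, q, hq, n, mul_inv_eq_iff_eq_mul.1 hn, hd⟩
  · exact Or.inr ⟨e, key 2 (Or.inr rfl) e⟩

end

end Cfsg.Agent.M22Six.Cfg
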