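import Cfsg.Agent.Lib.M22Six.Defs
import Cfsg.Agent.Lib.Solvable.WielandtOrder
import Cfsg.Agent.Lib.J4Module.Rep
import Cfsg.Agent.Lib.LargeFischer.Setting
import Cfsg.Agent.Lib.Transfer.PGroup

/-!
The largest normal two-subgroup of the centraliser of the involution is extraspecial of order 2^13.
-/

set_option autoImplicit false
set_option maxRecDepth 20000
set_option linter.style.haveILetI false
set_option linter.unusedSectionVars false

namespace Cfsg.Agent.M22Six

open Subgroup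
open Cfsg.Agent.LargeExtra (coreAt coreAt_isPGroup coreAt_le coreAt_normal le_coreAt mem_centralizer_one
  centralizer_zpowers)
open scoped commutatorElement

/-- The two facts on the Mathieu group used here. -/
structure Facts : Prop where
  no_elem : ∀ R : Subgroup ↥Cfsg.Spor.M22, Cfsg.IsElementaryAbelian 2 R → Nat.card R = 32 → False
  no_norm : ∀ (R : Subgroup ↥Cfsg.Spor.M22) (a : ↥Cfsg.Spor.M22), Nat.card R = 128 → orderOf a = 3 →
    a ∈ normalizer (R : Set ↥Cfsg.Spor.M22) → False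

/-- A number killed by a power of two and by three. -/
theorem eq_one_of_two_three {G : Type*} [Group G] {a : G} {k : ℕ} (h2 : a ^ 2 ^ k = 1) (h3 : a ^ 3 = 1) : a = 1 :=
  orderOf_eq_one_iff.1 (Nat.eq_one_of_dvd_coprimes (Nat.Coprime.pow_left k (by norm_num : Nat.Coprime 2 3))
    (orderOf_dvd_of_pow_eq_one h2) (orderOf_dvd_of_pow_eq_one h3))

namespace Cfg

variable {G : Type*} [Group G] [Finite G] (K : Cfg G)

theorem x3 : K.x ^ 3 = 1 := by rw [← K.hx]; exact pow_orderOf_eq_one _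

theorem z2 : K.z ^ 2 = 1 := by rw [← K.hz]; exact pow_orderOf_eq_one _

theorem zz : K.z * K.z = 1 := by rw [← pow_two]; exact K.z2

theorem xz : Commute K.x K.z := K.z_comm K.x (Commute.refl _)

theorem z_ne : K.z ≠ 1 := fun e => by have h := K.hz; rw [e, orderOf_one] at h; norm_num at h

theorem x_ne : K.x ≠ 1 := fun e => by have h := K.hx; rw [e, orderOf_one] at h; norm_num at h

theorem y3 : K.y ^ 3 = 1 := by rw [← K.g_x, conj_pow, K.x3]; group

theorem yz : Commute K.y K.z := K.z_comm K.y K.y_comm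

theorem y_pow_ne {j : ℕ} (hj : j % 3 ≠ 0) (i : ℕ) : K.y ^ j ≠ K.x ^ i := by
  intro e
  rcases (by omega : j % 3 = 1 ∨ j % 3 = 2) with h | h
  · refine K.y_ne i ?_
    rwa [pow_eq_pow_mod j K.y3, h, pow_one] at e
  · refine K.y_ne (i * 2) ?_
    rw [pow_mul, ← e, ← pow_mul, pow_eq_pow_mod (j * 2) K.y3, show j * 2 % 3 = 1 by omega, pow_one]

theorem mem_C {c : G} : c ∈ centralizer ({K.x} : Set G) ↔ Commute c K.x := mem_centralizer_singleton_iff

/-- The centraliser of `x` in that of `z`. -/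
theorem C_le {c : G} (hc : Commute c K.x) : c ∈ centralizer ({K.z} : Set G) :=
  mem_centralizer_one.2 (K.z_comm c hc).eq

theorem x_mem : K.x ∈ centralizer ({K.z} : Set G) := K.C_le (Commute.refl _)

theorem two_kernel {c : ↥(centralizer ({K.x} : Set G))} (h : K.π c = 1) {k : ℕ} (hk : (c : G) ^ 2 ^ k = 1) :
    (c : G) = 1 ∨ (c : G) = K.z := by
  obtain ⟨i, j, e⟩ := (K.π_ker c).1 h
  have hxi : K.x ^ i = 1 := by
    refine eq_one_of_two_three (k := k + 1) ?_ (by rw [← pow_mul, mul_comm, pow_mul, K.x3, one_pow])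
    have e' : K.x ^ i = (c : G) * (K.z ^ j)⁻¹ := by rw [e, mul_inv_cancel_right]
    have hc : Commute (c : G) ((K.z ^ j)⁻¹) :=
      ((show Commute (c : G) K.z from K.z_comm _ (K.mem_C.1 c.2)).pow_right j).inv_right
    rw [e', hc.mul_pow, pow_succ, pow_mul, hk, one_pow, one_mul, ← pow_succ, inv_pow, ← pow_mul, pow_succ',
      mul_left_comm, pow_mul, K.z2, one_pow, inv_one]
  rw [hxi, one_mul] at e
  rw [e, pow_eq_pow_mod j K.z2]
  rcases Nat.mod_two_eq_zero_or_one j with h | h <;> simp [h]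

theorem three_kernel {c : ↥(centralizer ({K.x} : Set G))} (h : K.π c = 1) (hc : (c : G) ^ 3 = 1) :
    ∃ i : ℕ, (c : G) = K.x ^ i := by
  obtain ⟨i, j, e⟩ := (K.π_ker c).1 h
  have hcom : Commute (K.x ^ i) (K.z ^ j) := K.xz.pow_pow i j
  have hzj : K.z ^ j = 1 := by
    refine eq_one_of_two_three (k := 1) (by rw [pow_one, ← pow_mul, mul_comm, pow_mul, K.z2, one_pow]) ?_
    rw [e, hcom.mul_pow, ← pow_mul, mul_comm, pow_mul, K.x3, one_pow, one_mul] at hc
    exact hc
  exact ⟨i, by rw [e, hzj, mul_one]⟩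

/-- A two-subgroup of the centraliser of `x` normalised by it. -/
theorem two_normal {D : Subgroup G} (hD : IsPGroup 2 D) (hle : ∀ d ∈ D, Commute d K.x)
    (hn : ∀ c : G, Commute c K.x → ∀ d ∈ D, c * d * c⁻¹ ∈ D) {d : G} (hd : d ∈ D) : d = 1 ∨ d = K.z := by
  haveI := Fact.mk Nat.prime_two
  let D' : Subgroup ↥(centralizer ({K.x} : Set G)) := D.subgroupOf _
  haveI : D'.Normal := ⟨fun a ha c => hn c (K.mem_C.1 c.2) a ha⟩
  have hD' : IsPGroup 2 D' := hD.comap_subtype
  haveI := Golay.isSimpleGroup_sporM22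
  rcases ((inferInstance : D'.Normal).map K.π K.π_surj).eq_bot_or_eq_top with h | h
  · obtain ⟨k, hk⟩ := hD ⟨d, hd⟩
    have hdC : d ∈ centralizer ({K.x} : Set G) := K.mem_C.2 (hle d hd)
    exact K.two_kernel (c := ⟨d, hdC⟩) (by
      have hm : K.π ⟨d, hdC⟩ ∈ D'.map K.π := ⟨⟨d, hdC⟩, hd, rfl⟩
      rw [h, mem_bot] at hm
      exact hm) (by simpa using congrArg Subtype.val hk)
  · exfalso
    obtain ⟨k, hk⟩ := (hD'.map K.π).exists_card_eq
    rw [h, card_top, Golay.card_sporM22] at hk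
    have h3 : 3 ∣ 2 ^ k := hk ▸ (by norm_num : (3 : ℕ) ∣ 443520)
    exact absurd (Nat.prime_three.dvd_of_dvd_pow h3) (by norm_num)

/-- The two-core. -/
abbrev E : Subgroup G := coreAt K.z

theorem z_mem_E : K.z ∈ K.E := by
  have hz : zpowers K.z ≤ centralizer ({K.z} : Set G) := zpowers_le.2 (mem_centralizer_one.2 rfl)
  refine le_coreAt (IsPGroup.of_card (n := 1) (by rw [Nat.card_zpowers, K.hz, pow_one])) hz ?_ (mem_zpowers _)
  intro h hh
  refine mem_normalizer_iff.2 fun a => ?_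
  have hc : ∀ i : ℤ, Commute h (K.z ^ i) := fun i =>
    (show Commute h K.z from mem_centralizer_one.1 hh).zpow_right i
  constructor
  · rintro ⟨i, rfl⟩
    exact ⟨i, by simp only; rw [(hc i).eq, mul_inv_cancel_right]⟩
  · rintro ⟨i, hi⟩
    exact ⟨i, by
      simp only at hi ⊢
      calc K.z ^ i = h⁻¹ * (h * K.z ^ i) := by group
        _ = h⁻¹ * (K.z ^ i * h) := by rw [(hc i).eq]
        _ = a := by rw [hi]; group⟩

theorem E_conj {c : G} (hc : c ∈ centralizer ({K.z} : Set G)) {a : G} (ha : a ∈ K.E) : c * a * c⁻¹ ∈ K.E :=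
  (mem_normalizer_iff.1 (coreAt_normal K.z hc) a).1 ha

theorem E_cent {a : G} (ha : a ∈ K.E) (hc : Commute a K.x) : a = 1 ∨ a = K.z :=
  K.two_normal (D := K.E ⊓ centralizer {K.x}) ((coreAt_isPGroup K.z).to_le inf_le_left)
    (fun d hd => K.mem_C.1 (mem_inf.1 hd).2)
    (fun c hc d hd => mem_inf.2 ⟨K.E_conj (K.C_le hc) (mem_inf.1 hd).1,
      mul_mem (mul_mem (K.mem_C.2 hc) (mem_inf.1 hd).2) (inv_mem (K.mem_C.2 hc))⟩)
    (mem_inf.2 ⟨ha, K.mem_C.2 hc⟩)

theorem x_not_E : K.x ∉ K.E := fun h => by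
  obtain ⟨k, hk⟩ := coreAt_isPGroup K.z ⟨K.x, h⟩
  exact K.x_ne (eq_one_of_two_three (by simpa using congrArg Subtype.val hk) K.x3)

theorem x_moves : ∃ a ∈ K.E, ¬ Commute a K.x := by
  by_contra h
  push Not at h
  exact K.x_not_E (K.core (mem_inf.2 ⟨K.x_mem, mem_centralizer_iff.2 fun a ha => (h a ha).eq⟩))

/-- The abelian group of order nine. -/
def A : Subgroup G where
  carrier := {a | ∃ i j : ℕ, a = K.x ^ i * K.y ^ j}
  one_mem' := ⟨0, 0, by simp⟩
  mul_mem' := by
    rintro _ _ ⟨i, j, rfl⟩ ⟨i', j', rfl⟩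
    refine ⟨i + i', j + j', ?_⟩
    have h : Commute (K.y ^ j) (K.x ^ i') := K.y_comm.pow_pow j i'
    rw [pow_add, pow_add]
    calc _ = K.x ^ i * (K.y ^ j * K.x ^ i') * K.y ^ j' := by group
      _ = _ := by rw [h.eq]; group
  inv_mem' := by
    rintro _ ⟨i, j, rfl⟩
    refine ⟨i * 2, j * 2, ?_⟩
    have h : Commute (K.x ^ i) (K.y ^ j) := K.y_comm.symm.pow_pow i j
    refine inv_eq_of_mul_eq_one_right ?_
    rw [pow_mul, pow_mul, ← h.mul_pow, ← pow_succ', h.mul_pow, ← pow_mul, ← pow_mul, mul_comm i, mul_comm j,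
      pow_mul, pow_mul, K.x3, K.y3, one_pow, one_pow, one_mul]

theorem x_mem_A : K.x ∈ K.A := ⟨1, 0, by simp⟩

theorem A_card : Nat.card K.A = 9 := by
  let F : Fin 3 × Fin 3 → K.A := fun p => ⟨K.x ^ (p.1 : ℕ) * K.y ^ (p.2 : ℕ), p.1, p.2, rfl⟩
  have hF : Function.Bijective F := by
    refine ⟨?_, ?_⟩
    · rintro ⟨i, j⟩ ⟨i', j'⟩ e
      have e' : K.x ^ (i : ℕ) * K.y ^ (j : ℕ) = K.x ^ (i' : ℕ) * K.y ^ (j' : ℕ) := congrArg Subtype.val e
      have hj : j = j' := by
        by_contra hne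
        have hne' : (j : ℕ) ≠ j' := fun h => hne (Fin.ext h)
        refine K.y_pow_ne (j := (j : ℕ) + 2 * j') (by omega) ((i' : ℕ) + 2 * i) ?_
        calc K.y ^ ((j : ℕ) + 2 * j') = (K.x ^ (i : ℕ))⁻¹ * (K.x ^ (i : ℕ) * K.y ^ (j : ℕ)) * (K.y ^ 2) ^ (j' : ℕ) := by
              rw [pow_add, pow_mul]; group
          _ = (K.x ^ (i : ℕ))⁻¹ * K.x ^ (i' : ℕ) * (K.y ^ (j' : ℕ) * (K.y ^ 2) ^ (j' : ℕ)) := by rw [e']; group
          _ = (K.x ^ 2) ^ (i : ℕ) * K.x ^ (i' : ℕ) := by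
            have hy : K.y ^ (j' : ℕ) * (K.y ^ 2) ^ (j' : ℕ) = 1 := by
              rw [← (Commute.self_pow K.y 2).mul_pow, ← pow_succ', K.y3, one_pow]
            have hx : (K.x ^ (i : ℕ))⁻¹ = (K.x ^ 2) ^ (i : ℕ) := inv_eq_of_mul_eq_one_right (by
              rw [← (Commute.self_pow K.x 2).mul_pow, ← pow_succ', K.x3, one_pow])
            rw [hy, hx, mul_one]
          _ = _ := by rw [← pow_mul, ← pow_add, add_comm]
      subst hj
      have hi := mul_right_cancel e'
      have : i = i' := Fin.ext (pow_injOn_Iio_orderOf (by rw [K.hx]; exact i.2) (by rw [K.hx]; exact i'.2) hi)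
      rw [this]
    · rintro ⟨_, i, j, rfl⟩
      exact ⟨(⟨i % 3, Nat.mod_lt _ (by norm_num)⟩, ⟨j % 3, Nat.mod_lt _ (by norm_num)⟩), Subtype.ext (by
        show K.x ^ (i % 3) * K.y ^ (j % 3) = _
        rw [← pow_eq_pow_mod i K.x3, ← pow_eq_pow_mod j K.y3])⟩
  rw [← Nat.card_eq_of_bijective F hF, Nat.card_prod, Nat.card_fin]

theorem A_comm {a : G} (ha : a ∈ K.A) : Commute a K.x ∧ Commute a K.y ∧ a ^ 3 = 1 := by
  obtain ⟨i, j, rfl⟩ := ha
  refine ⟨((Commute.refl K.x).pow_left i).mul_left (K.y_comm.pow_left j),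
    (K.y_comm.symm.pow_left i).mul_left ((Commute.refl K.y).pow_left j), ?_⟩
  rw [(K.y_comm.symm.pow_pow i j).mul_pow, ← pow_mul, ← pow_mul, mul_comm i, mul_comm j, pow_mul, pow_mul, K.x3,
    K.y3, one_pow, one_pow, one_mul]

theorem A_elem : Cfsg.IsElementaryAbelian 3 K.A := by
  refine ⟨⟨⟨fun a b => Subtype.ext ?_⟩⟩, fun a ha => (K.A_comm ha).2.2⟩
  obtain ⟨i, j, e⟩ := b.2
  show (a : G) * b = b * a
  rw [e]
  exact (((K.A_comm a.2).1.pow_right i).mul_right ((K.A_comm a.2).2.1.pow_right j)).eq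

/-- An invariant subgroup of the core. -/
structure Sub (D : Subgroup G) : Prop where
  le : D ≤ K.E
  z_mem : K.z ∈ D
  conj : ∀ c : G, Commute c K.x → ∀ d ∈ D, c * d * c⁻¹ ∈ D

theorem sub_E : K.Sub K.E := ⟨le_rfl, K.z_mem_E, fun _ hc _ hd => K.E_conj (K.C_le hc) hd⟩

theorem Sub.cent_x {D : Subgroup G} (hD : K.Sub D) : D ⊓ centralizer ({K.x} : Set G) = zpowers K.z := by
  refine le_antisymm (fun a ha => ?_) (zpowers_le.2 (mem_inf.2 ⟨hD.z_mem, K.mem_C.2 K.xz.symm⟩))
  rcases K.E_cent (hD.le (mem_inf.1 ha).1) (K.mem_C.1 (mem_inf.1 ha).2) with rfl | rfl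
  exacts [one_mem _, mem_zpowers _]

/-- The order formula. -/
theorem Sub.card_formula {D : Subgroup G} (hD : K.Sub D) :
    Nat.card D * 8 = 2 * Nat.card ↥(D ⊓ centralizer ({K.y} : Set G)) ^ 3 := by
  classical
  haveI : Fact (Nat.Prime 3) := ⟨Nat.prime_three⟩
  have hAn : K.A ≤ normalizer (D : Set G) := by
    intro a ha
    refine mem_normalizer_iff.2 fun d => ⟨fun hd => hD.conj a (K.A_comm ha).1 d hd, fun hd => ?_⟩
    have := hD.conj a⁻¹ (K.A_comm ha).1.inv_left _ hd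
    simpa [mul_assoc] using this
  have hcop : (Nat.card K.A).Coprime (Nat.card D) := by
    obtain ⟨k, hk⟩ := ((coreAt_isPGroup K.z).to_le hD.le).exists_card_eq
    rw [K.A_card, hk]
    exact Nat.Coprime.pow_right k (by norm_num)
  have h := WielandtOrder.formula K.A_elem (K.A_card.trans (by norm_num)) D hAn hcop
  have h2 : Nat.card (zpowers K.z) = 2 := by rw [Nat.card_zpowers, K.hz]
  have hall : D ⊓ centralizer (K.A : Set G) = zpowers K.z := by
    refine le_antisymm ?_ (zpowers_le.2 (mem_inf.2 ⟨hD.z_mem, mem_centralizer_iff.2 fun a ha =>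
      (K.z_comm a (K.A_comm ha).1).eq⟩))
    intro d hd
    rw [← hD.cent_x]
    exact mem_inf.2 ⟨(mem_inf.1 hd).1, K.mem_C.2 (mem_centralizer_iff.1 (mem_inf.1 hd).2 K.x K.x_mem_A).symm⟩
  rw [hall, h2] at h
  set D0 : WielandtOrder.lines 3 K.A := ⟨zpowers K.x, zpowers_le.2 K.x_mem_A, by rw [Nat.card_zpowers, K.hx]⟩
  have hD0 : Nat.card ↥(D ⊓ centralizer (((D0 : Subgroup G)) : Set G)) = 2 := by
    rw [show (D0 : Subgroup G) = zpowers K.x from rfl, centralizer_zpowers, hD.cent_x, h2]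
  have hother : ∀ L : WielandtOrder.lines 3 K.A, L ≠ D0 →
      Nat.card ↥(D ⊓ centralizer ((L : Subgroup G) : Set G)) = Nat.card ↥(D ⊓ centralizer ({K.y} : Set G)) := by
    intro L hL
    obtain ⟨hLA, hL3⟩ := L.2
    obtain ⟨b, hb, hb1⟩ : ∃ b ∈ (L : Subgroup G), b ≠ 1 := by
      by_contra hh
      push Not at hh
      rw [show (L : Subgroup G) = ⊥ from (eq_bot_iff_forall _).2 hh, Nat.card_unique] at hL3
      norm_num at hL3
    have hord : orderOf b = 3 := orderOf_eq_prime (K.A_comm (hLA hb)).2.2 hb1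
    have hLb : (L : Subgroup G) = zpowers b :=
      (eq_of_le_of_card_ge (zpowers_le.2 hb) (by rw [hL3, Nat.card_zpowers, hord])).symm
    have hnx : ∀ i : ℕ, b ≠ K.x ^ i := fun i e => hL (Subtype.ext (by
      show (L : Subgroup G) = zpowers K.x
      rw [hLb]
      exact eq_of_le_of_card_ge (zpowers_le.2 (e ▸ pow_mem (mem_zpowers _) i))
        (by rw [Nat.card_zpowers, Nat.card_zpowers, hord, K.hx])))
    obtain ⟨c, hc, hcy⟩ := K.conj_y b (K.A_comm (hLA hb)).1 (K.A_comm (hLA hb)).2.2 hnx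
    rw [hLb, centralizer_zpowers]
    refine (Eq.symm ?_)
    rw [← card_map_of_injective (K := D ⊓ centralizer ({K.y} : Set G))
      (f := (MulAut.conj c).toMonoidHom) (MulAut.conj c).injective]
    refine congrArg (fun X : Subgroup G => Nat.card X) ?_
    ext a
    constructor
    · rintro ⟨d, hd, rfl⟩
      refine mem_inf.2 ⟨hD.conj c hc d (mem_inf.1 hd).1, mem_centralizer_singleton_iff.2 ?_⟩
      rw [← hcy]
      exact ((show Commute d K.y from mem_centralizer_singleton_iff.1 (mem_inf.1 hd).2).conj c).eq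
    · intro ha
      refine ⟨c⁻¹ * a * c, mem_inf.2 ⟨?_, mem_centralizer_singleton_iff.2 ?_⟩, by simp [mul_assoc]⟩
      · have := hD.conj c⁻¹ hc.inv_left a (mem_inf.1 ha).1
        rwa [inv_inv] at this
      · have h1 := (show Commute a b from mem_centralizer_singleton_iff.1 (mem_inf.1 ha).2).conj c⁻¹
        rw [inv_inv, show c⁻¹ * b * c = K.y by rw [← hcy]; group] at h1
        exact h1.eq
  rw [← Finset.mul_prod_erase _ _ (Finset.mem_univ D0), hD0,
    Finset.prod_congr rfl (fun L hL => hother L (Finset.ne_of_mem_erase hL)), Finset.prod_const,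
    Finset.card_erase_of_mem (Finset.mem_univ D0), Finset.card_univ,
    WielandtOrder.card_lines K.A_elem (K.A_card.trans (by norm_num))] at h
  simpa using h

/-- The fixed points of `y` in an invariant subgroup: an odd power of two. -/
theorem Sub.odd_fix {D : Subgroup G} (hD : K.Sub D) :
    ∃ l : ℕ, Odd l ∧ Nat.card ↥(D ⊓ centralizer ({K.y} : Set G)) = 2 ^ l := by
  haveI : Fact (Nat.Prime 2) := ⟨Nat.prime_two⟩
  haveI : Fact (Nat.Prime 3) := ⟨Nat.prime_three⟩
  set X := D ⊓ centralizer ({K.y} : Set G)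
  obtain ⟨l, hl⟩ := ((coreAt_isPGroup K.z).to_le ((inf_le_left : X ≤ D).trans hD.le)).exists_card_eq
  refine ⟨l, ?_, hl⟩
  have hxX : ∀ a ∈ X, K.x * a * K.x⁻¹ ∈ X := fun a ha =>
    mem_inf.2 ⟨hD.conj K.x (Commute.refl _) a (mem_inf.1 ha).1,
      mul_mem (mul_mem (mem_centralizer_singleton_iff.2 K.y_comm.symm.eq) (mem_inf.1 ha).2)
        (inv_mem (mem_centralizer_singleton_iff.2 K.y_comm.symm.eq))⟩
  let F : X → X := fun a => ⟨K.x * a * K.x⁻¹, hxX a a.2⟩
  have hF : ∀ a, F^[3] a = a := fun a => Subtype.ext (by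
    show K.x * (K.x * (K.x * a * K.x⁻¹) * K.x⁻¹) * K.x⁻¹ = a
    calc _ = K.x ^ 3 * a * (K.x ^ 3)⁻¹ := by rw [pow_three]; group
      _ = a := by rw [K.x3]; group)
  have hfix : Nat.card {a : X // F a = a} = 2 := by
    rw [← K.hz, ← Nat.card_zpowers]
    refine Nat.card_congr
      { toFun := fun a => ⟨(a.1 : G), hD.cent_x.le (mem_inf.2 ⟨(mem_inf.1 a.1.2).1,
          K.mem_C.2 (mul_inv_eq_iff_eq_mul.1 (congrArg Subtype.val a.2)).symm⟩)⟩
        invFun := fun b => ⟨⟨(b : G), mem_inf.2 ⟨(mem_inf.1 (hD.cent_x.ge b.2)).1,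
            zpowers_le.2 (mem_centralizer_singleton_iff.2 K.yz.symm.eq) b.2⟩⟩,
          Subtype.ext (mul_inv_eq_iff_eq_mul.2
            (K.mem_C.1 (mem_inf.1 (hD.cent_x.ge b.2)).2).symm.eq)⟩
        left_inv := fun _ => rfl
        right_inv := fun _ => rfl }
  have h := J4Module.periodic_modEq F hF
  rw [hl, hfix] at h
  by_contra hev
  obtain ⟨j, rfl⟩ := Nat.not_odd_iff_even.1 hev
  rw [← two_mul, pow_mul, Nat.ModEq, Nat.pow_mod] at h
  norm_num at h

/-- No invariant subgroup of order 128. -/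
theorem Sub.card_ne {D : Subgroup G} (hD : K.Sub D) : Nat.card D ≠ 128 := by
  intro h128
  haveI : Fact (Nat.Prime 11) := ⟨by norm_num⟩
  haveI : Fact (Nat.Prime 2) := ⟨Nat.prime_two⟩
  obtain ⟨u, hu⟩ := exists_prime_orderOf_dvd_card' (G := ↥(centralizer ({K.x} : Set G))) 11
    (by rw [K.card_C]; norm_num)
  let Kr : Subgroup ↥(centralizer ({K.x} : Set G)) := (centralizer (D : Set G)).subgroupOf _
  have huK : u ∈ Kr := by
    let F : D → D := fun d => ⟨(u : G) * d * (u : G)⁻¹, hD.conj u (K.mem_C.1 u.2) d d.2⟩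
    have hit : ∀ (n : ℕ) (d : D), ((F^[n] d : D) : G) = (u : G) ^ n * d * ((u : G) ^ n)⁻¹ := by
      intro n
      induction n with
      | zero => intro d; simp
      | succ n ih =>
        intro d
        rw [Function.iterate_succ_apply', show ((F (F^[n] d) : D) : G) = (u : G) * (F^[n] d : D) * (u : G)⁻¹ from rfl,
          ih, pow_succ']
        group
    have hF : ∀ d, F^[11] d = d := fun d => Subtype.ext (by
      rw [hit, ← coe_pow, ← hu, pow_orderOf_eq_one, coe_one, one_mul, inv_one, mul_one])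
    have h := J4Module.periodic_modEq F hF
    let Fx : Subgroup G := D ⊓ centralizer ({(u : G)} : Set G)
    have hfix : Nat.card {d : D // F d = d} = Nat.card Fx := by
      refine Nat.card_congr
        { toFun := fun d => ⟨d.1.1, d.1.2, mem_centralizer_singleton_iff.2
            (mul_inv_eq_iff_eq_mul.1 (congrArg Subtype.val d.2)).symm⟩
          invFun := fun d => ⟨⟨d.1, (mem_inf.1 d.2).1⟩, Subtype.ext (mul_inv_eq_iff_eq_mul.2
            (mem_centralizer_singleton_iff.1 (mem_inf.1 d.2).2).symm)⟩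
          left_inv := fun _ => rfl
          right_inv := fun _ => rfl }
    obtain ⟨j, hj⟩ := (((coreAt_isPGroup K.z).to_le hD.le).to_le (inf_le_left : Fx ≤ D)).exists_card_eq
    have hjd := card_dvd_of_le (inf_le_left : Fx ≤ D)
    rw [h128, hj] at hjd
    rw [h128, hfix, hj] at h
    have hj7 : j ≤ 7 := (Nat.pow_dvd_pow_iff_le_right (by norm_num : 1 < 2)).1
      (show 2 ^ j ∣ 2 ^ 7 by simpa using hjd)
    have : j = 7 := by
      interval_cases j <;> simp_all [Nat.ModEq]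
    have hFx : Fx = D := eq_of_le_of_card_ge inf_le_left (by rw [h128, hj, this]; norm_num)
    refine mem_subgroupOf.2 (mem_centralizer_iff.2 fun d hd => ?_)
    exact mem_centralizer_singleton_iff.1 (mem_inf.1 (hFx.ge hd)).2
  haveI : Kr.Normal := ⟨fun a ha c => by
    rw [mem_subgroupOf, mem_centralizer_iff] at ha ⊢
    intro d hd
    have h1 : (c : G)⁻¹ * d * c ∈ D := by
      have := hD.conj (c : G)⁻¹ (K.mem_C.1 c.2).inv_left d hd
      rwa [inv_inv] at this
    have h2 := ha _ h1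
    simp only [coe_mul, coe_inv]
    calc d * ((c : G) * a * (c : G)⁻¹) = (c : G) * ((c : G)⁻¹ * d * c * a) * (c : G)⁻¹ := by group
      _ = _ := by rw [h2]; group⟩
  haveI := Golay.isSimpleGroup_sporM22
  have htop : Kr.map K.π = ⊤ := by
    refine ((inferInstance : Kr.Normal).map K.π K.π_surj).eq_bot_or_eq_top.resolve_left fun hb => ?_
    have hm : K.π u ∈ Kr.map K.π := ⟨u, huK, rfl⟩
    rw [hb, mem_bot] at hm
    obtain ⟨i, j, e⟩ := (K.π_ker u).1 hm
    have h6 : (u : G) ^ 6 = 1 := by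
      rw [e, (K.xz.pow_pow i j).mul_pow, ← pow_mul, ← pow_mul, show i * 6 = 3 * (2 * i) by ring,
        show j * 6 = 2 * (3 * j) by ring, pow_mul K.x 3, pow_mul K.z 2, K.x3, K.z2, one_pow, one_pow, one_mul]
    have := orderOf_dvd_of_pow_eq_one h6
    rw [Subgroup.orderOf_coe, hu] at this
    norm_num at this
  have hker : ∀ c : ↥(centralizer ({K.x} : Set G)), ∃ k ∈ Kr, ∀ a, Commute (k⁻¹ * c) a := fun c => by
    obtain ⟨k, hk, e⟩ := (htop ▸ mem_top (K.π c) : K.π c ∈ Kr.map K.π)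
    refine ⟨k, hk, fun a => Subtype.ext ?_⟩
    obtain ⟨i, j, e'⟩ := (K.π_ker (k⁻¹ * c)).1 (by rw [map_mul, map_inv, e, inv_mul_cancel])
    show ((k⁻¹ * c : ↥(centralizer ({K.x} : Set G))) : G) * a = a * ((k⁻¹ * c : ↥(centralizer ({K.x} : Set G))) : G)
    rw [e']
    exact (((K.mem_C.1 a.2).symm.pow_left i).mul_left ((K.z_comm _ (K.mem_C.1 a.2)).symm.pow_left j)).eq
  have hall : commutator ↥(centralizer ({K.x} : Set G)) ≤ Kr := by
    rw [_root_.commutator_def, Subgroup.commutator_le]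
    intro a _ b _
    obtain ⟨k, hk, hk'⟩ := hker a
    obtain ⟨l, hl, hl'⟩ := hker b
    have e : ⁅a, b⁆ = ⁅k, l⁆ := by
      have ea : a = k * (k⁻¹ * a) := by group
      have eb : b = l * (l⁻¹ * b) := by group
      set u1 := k⁻¹ * a
      set v1 := l⁻¹ * b
      rw [ea, eb, commutatorElement_def, commutatorElement_def]
      calc k * u1 * (l * v1) * (k * u1)⁻¹ * (l * v1)⁻¹
          = k * (u1 * (l * v1)) * u1⁻¹ * k⁻¹ * (v1⁻¹ * l⁻¹) := by group
        _ = k * l * (v1 * k⁻¹) * v1⁻¹ * l⁻¹ := by rw [(hk' _).eq]; group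
        _ = _ := by rw [(hl' _).eq]; group
    rw [e]
    exact mul_mem (mul_mem (mul_mem hk hl) (inv_mem hk)) (inv_mem hl)
  rw [K.perfect] at hall
  have hxD : ∀ d ∈ D, Commute d K.x := fun d hd =>
    mem_centralizer_iff.1 (mem_subgroupOf.1 (hall (mem_top (⟨K.x, K.mem_C.2 (Commute.refl _)⟩ :
      ↥(centralizer ({K.x} : Set G)))))) d hd
  have hle : D ≤ zpowers K.z := fun d hd => hD.cent_x ▸ mem_inf.2 ⟨hd, K.mem_C.2 (hxD d hd)⟩
  have := card_le_of_le hle
  rw [h128, Nat.card_zpowers, K.hz] at this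
  norm_num at this

/-- The central involution of the centraliser of `y`. -/
def zy : G := K.g * K.z * K.g⁻¹

theorem toC {c : G} (hc : Commute c K.y) : Commute (K.g⁻¹ * c * K.g) K.x := by
  have h := hc.conj K.g⁻¹
  rwa [inv_inv, ← K.g_x, show K.g⁻¹ * (K.g * K.x * K.g⁻¹) * K.g = K.x by group] at h

/-- The centraliser of `y` onto the Mathieu group. -/
noncomputable def πy : ↥(centralizer ({K.y} : Set G)) →* ↥Cfsg.Spor.M22 :=
  K.π.comp (MonoidHom.mk' (fun c => (⟨K.g⁻¹ * c * K.g, K.mem_C.2 (K.toC (mem_centralizer_singleton_iff.1 c.2))⟩ :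
    ↥(centralizer ({K.x} : Set G)))) fun a b => Subtype.ext (by simp only [coe_mul]; group))

theorem zy_ne (h : (K.E ⊓ centralizer ({K.y} : Set G)) ≠ zpowers K.z) : K.zy ≠ K.z := by
  intro e
  haveI : Fact (Nat.Prime 2) := ⟨Nat.prime_two⟩
  refine h (le_antisymm (fun a ha => ?_) (zpowers_le.2 (mem_inf.2 ⟨K.z_mem_E,
    mem_centralizer_singleton_iff.2 K.yz.symm.eq⟩)))
  set X := K.E ⊓ centralizer ({K.y} : Set G)
  have hCy : ∀ c : G, Commute c K.y → c ∈ centralizer ({K.z} : Set G) := fun c hc => by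
    have h1 := (K.z_comm _ (K.toC hc)).conj K.g
    rw [show K.g * (K.g⁻¹ * c * K.g) * K.g⁻¹ = c by group, ← zy, e] at h1
    exact mem_centralizer_one.2 h1.eq
  have h2 := K.two_normal (D := X.map (MulAut.conj K.g⁻¹).toMonoidHom)
    (((coreAt_isPGroup K.z).to_le inf_le_left).map _) (by
      rintro _ ⟨d, hd, rfl⟩
      simpa [mul_assoc] using K.toC (mem_centralizer_singleton_iff.1 (mem_inf.1 hd).2)) (by
      rintro c hc _ ⟨d, hd, rfl⟩
      have hy' : Commute (K.g * c * K.g⁻¹) K.y := by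
        have := hc.conj K.g
        rwa [K.g_x] at this
      refine ⟨K.g * c * K.g⁻¹ * d * (K.g * c * K.g⁻¹)⁻¹, mem_inf.2 ⟨K.E_conj (hCy _ hy') (mem_inf.1 hd).1,
        mul_mem (mul_mem (mem_centralizer_singleton_iff.2 hy'.eq) (mem_inf.1 hd).2)
          (inv_mem (mem_centralizer_singleton_iff.2 hy'.eq))⟩, ?_⟩
      simp [mul_assoc]) (d := K.g⁻¹ * a * K.g) ⟨a, ha, by simp [mul_assoc]⟩
  rcases h2 with h2 | h2
  · rw [show a = K.g * (K.g⁻¹ * a * K.g) * K.g⁻¹ by group, h2]; simp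
  · rw [show a = K.g * (K.g⁻¹ * a * K.g) * K.g⁻¹ by group, h2, ← zy, e]; exact mem_zpowers _

/-- The fixed points of `y` in the core, inside the Mathieu group. -/
noncomputable def φ : ↥(K.E ⊓ centralizer ({K.y} : Set G)) →* ↥Cfsg.Spor.M22 :=
  K.πy.comp (Subgroup.inclusion inf_le_right)

theorem φ_inj (h : (K.E ⊓ centralizer ({K.y} : Set G)) ≠ zpowers K.z) : Function.Injective K.φ := by
  rw [injective_iff_map_eq_one]
  intro a ha
  obtain ⟨k, hk⟩ := coreAt_isPGroup K.z ⟨(a : G), (mem_inf.1 a.2).1⟩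
  have hk' : (K.g⁻¹ * (a : G) * K.g) ^ 2 ^ k = 1 := by
    have h1 : (a : G) ^ 2 ^ k = 1 := by simpa using congrArg Subtype.val hk
    have h2 := conj_pow (a := K.g⁻¹) (b := (a : G)) (i := 2 ^ k)
    rw [inv_inv, h1] at h2
    rw [h2]; group
  rcases K.two_kernel ha (k := k) hk' with e | e
  · have e' : K.g⁻¹ * (a : G) * K.g = 1 := e
    exact Subtype.ext (by rw [show (a : G) = K.g * (K.g⁻¹ * a * K.g) * K.g⁻¹ by group, e']; simp)
  · exfalso
    have e' : K.g⁻¹ * (a : G) * K.g = K.z := e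
    have hzy : K.zy = a := by rw [zy, ← e']; group
    have hx : Commute (a : G) K.x := by
      have h1 := (K.z_comm _ (K.toC K.y_comm.symm)).symm.conj K.g
      rw [show K.g * (K.g⁻¹ * K.x * K.g) * K.g⁻¹ = K.x by group, ← zy, hzy] at h1
      exact h1
    rcases K.E_cent (mem_inf.1 a.2).1 hx with e1 | e1
    · rw [e1] at e'
      exact K.z_ne (by rw [← e']; group)
    · exact K.zy_ne h (hzy.trans e1)

/-- The core has order 2^13 and the invariant subgroups are trivial. -/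
theorem core_card (F : Facts) : Nat.card ↥(K.E ⊓ centralizer ({K.y} : Set G)) = 32 ∧ Nat.card K.E = 2 ^ 13 ∧
    ∀ D, K.Sub D → D = zpowers K.z ∨ D = K.E := by
  haveI : Fact (Nat.Prime 2) := ⟨Nat.prime_two⟩
  obtain ⟨k, hk, hkc⟩ := K.sub_E.odd_fix
  have hf := K.sub_E.card_formula
  rw [hkc] at hf
  have small : ∀ {D : Subgroup G}, K.Sub D → Nat.card ↥(D ⊓ centralizer ({K.y} : Set G)) = 2 → D = zpowers K.z := by
    intro D hD h
    have h' := hD.card_formula
    rw [h] at h'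
    exact (eq_of_le_of_card_ge (zpowers_le.2 hD.z_mem) (by rw [Nat.card_zpowers, K.hz]; omega)).symm
  have hk1 : k ≠ 1 := by
    rintro rfl
    obtain ⟨a, ha, hna⟩ := K.x_moves
    rw [small K.sub_E (by rw [hkc, pow_one])] at ha
    obtain ⟨i, rfl⟩ := ha
    exact hna (K.xz.symm.zpow_left i)
  have hne : (K.E ⊓ centralizer ({K.y} : Set G)) ≠ zpowers K.z := fun e => by
    rw [e, Nat.card_zpowers, K.hz] at hkc
    exact hk1 (Nat.pow_right_injective le_rfl (by simpa using hkc.symm))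
  have hinj := K.φ_inj hne
  have hrc : Nat.card K.φ.range = 2 ^ k := (Nat.card_congr (MonoidHom.ofInjective hinj).toEquiv).symm.trans hkc
  have hk7 : k ≤ 7 := by
    have h := Subgroup.card_subgroup_dvd_card K.φ.range
    rw [hrc, Golay.card_sporM22] at h
    by_contra hh
    exact absurd ((pow_dvd_pow 2 (show 8 ≤ k by omega)).trans h) (by norm_num)
  have hk7' : k ≠ 7 := by
    rintro rfl
    set xy : ↥(centralizer ({K.y} : Set G)) := ⟨K.x, mem_centralizer_singleton_iff.2 K.y_comm.symm.eq⟩ with hxy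
    have hxy3 : K.πy xy ^ 3 = 1 := by
      rw [← map_pow, show xy ^ 3 = 1 from Subtype.ext K.x3, map_one]
    have hxy1 : K.πy xy ≠ 1 := fun e => by
      obtain ⟨i, hi⟩ := K.three_kernel e (by
        have h2 := conj_pow (a := K.g⁻¹) (b := K.x) (i := 3)
        rw [inv_inv, K.x3] at h2
        exact h2.trans (by group))
      have hi' : K.g⁻¹ * K.x * K.g = K.x ^ i := hi
      have hxi : K.x = K.y ^ i := by rw [← K.g_x, conj_pow, ← hi']; group
      by_cases h0 : i % 3 = 0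
      · exact K.x_ne (by rw [hxi, pow_eq_pow_mod i K.y3, h0, pow_zero])
      · exact K.y_pow_ne h0 1 (by rw [pow_one, ← hxi])
    refine F.no_norm K.φ.range (K.πy xy) (by rw [hrc]; norm_num) (orderOf_eq_prime hxy3 hxy1) ?_
    refine mem_normalizer_fintype ?_
    rintro _ ⟨a, rfl⟩
    refine ⟨⟨K.x * a * K.x⁻¹, mem_inf.2 ⟨K.E_conj K.x_mem (mem_inf.1 a.2).1,
      mul_mem (mul_mem xy.2 (mem_inf.1 a.2).2) (inv_mem xy.2)⟩⟩, ?_⟩
    simp only [φ, MonoidHom.comp_apply]
    rw [← map_inv, ← map_mul, ← map_mul]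
    rfl
  obtain ⟨j, hj⟩ := hk
  have hj' : j = 1 ∨ j = 2 := by omega
  have hk3 : k ≠ 3 := fun e => by
    rw [e] at hf
    exact absurd (show Nat.card K.E = 128 by generalize Nat.card K.E = n at hf ⊢; norm_num at hf; omega) K.sub_E.card_ne
  have hk5 : k = 5 := by omega
  subst hk5
  have hE : Nat.card K.E = 2 ^ 13 := by norm_num at hf ⊢; omega
  refine ⟨hkc, hE, fun D hD => ?_⟩
  obtain ⟨l, hl, hlc⟩ := hD.odd_fix
  have hl5 : l ≤ 5 := by
    have h := card_le_of_le (show D ⊓ centralizer ({K.y} : Set G) ≤ K.E ⊓ centralizer {K.y} from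
      inf_le_inf_right _ hD.le)
    rw [hlc, hkc] at h
    exact (Nat.pow_le_pow_iff_right (by norm_num)).1 h
  have hD' := hD.card_formula
  rw [hlc] at hD'
  obtain ⟨i, hi⟩ := hl
  rcases (by omega : l = 1 ∨ l = 3 ∨ l = 5) with e | e | e <;> subst e
  · exact Or.inl (small hD (by rw [hlc, pow_one]))
  · exact absurd (by norm_num at hD'; omega) hD.card_ne
  · exact Or.inr (eq_of_le_of_card_ge hD.le (by rw [hE]; norm_num at hD' ⊢; omega))

theorem E_extraspecial (F : Facts) : Cfsg.IsExtraspecial 2 K.E := by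
  haveI : Fact (Nat.Prime 2) := ⟨Nat.prime_two⟩
  obtain ⟨h32, h13, htriv⟩ := K.core_card F
  have hEne : K.E ≠ zpowers K.z := fun e => by
    rw [e, Nat.card_zpowers, K.hz] at h13
    norm_num at h13
  have hzc : ∀ a ∈ K.E, Commute K.z a := fun a ha =>
    (show Commute a K.z from mem_centralizer_one.1 (coreAt_le K.z ha)).symm
  -- the squares
  let D : Subgroup G := closure ({a | ∃ b ∈ K.E, a = b * b} ∪ {K.z})
  have hDsub : K.Sub D := by
    refine ⟨(closure_le _).2 ?_, subset_closure (Or.inr rfl), fun c hc d hd => ?_⟩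
    · rintro a (⟨b, hb, rfl⟩ | rfl)
      exacts [mul_mem hb hb, K.z_mem_E]
    · have hle : D ≤ D.comap (MulAut.conj c).toMonoidHom := by
        refine (closure_le _).2 ?_
        rintro a (⟨b, hb, rfl⟩ | rfl)
        · exact subset_closure (Or.inl ⟨c * b * c⁻¹, K.E_conj (K.C_le hc) hb, by simp [mul_assoc]⟩)
        · show c * K.z * c⁻¹ ∈ D
          rw [(K.z_comm c hc).eq, mul_inv_cancel_right]
          exact subset_closure (Or.inr rfl)
      exact hle hd
  have hsq : ∀ b ∈ K.E, b * b ∈ zpowers K.z := by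
    rcases htriv D hDsub with e | e
    · exact fun b hb => e ▸ subset_closure (Or.inl ⟨b, hb, rfl⟩)
    · exfalso
      let zE : K.E := ⟨K.z, K.z_mem_E⟩
      have hle : D ≤ (frattini K.E ⊔ zpowers zE).map K.E.subtype := by
        refine (closure_le _).2 ?_
        rintro a (⟨b, hb, rfl⟩ | rfl)
        · exact ⟨⟨b, hb⟩ ^ 2, mem_sup_left (PGroupBasics.pow_mem_frattini (coreAt_isPGroup K.z) _),
            by simp [pow_two]⟩
        · exact ⟨zE, mem_sup_right (mem_zpowers _), rfl⟩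
      have htop : zpowers zE ⊔ frattini K.E = ⊤ := by
        rw [eq_top_iff, sup_comm]
        intro a _
        obtain ⟨b, hb, hab⟩ := hle (e.ge a.2)
        exact (show b = a from Subtype.ext hab) ▸ hb
      have hgen := frattini_nongenerating htop
      refine hEne (le_antisymm (fun a ha => ?_) (zpowers_le.2 K.z_mem_E))
      obtain ⟨i, hi⟩ := (hgen ▸ mem_top (⟨a, ha⟩ : K.E) : (⟨a, ha⟩ : K.E) ∈ zpowers zE)
      exact ⟨i, by simpa [zE] using congrArg Subtype.val hi⟩
  have hcomm : ∀ a ∈ K.E, ∀ b ∈ K.E, a * b * a⁻¹ * b⁻¹ ∈ zpowers K.z := by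
    intro a ha b hb
    have hca : Commute (a * a)⁻¹ b⁻¹ := by
      obtain ⟨i, hi⟩ := hsq a ha
      rw [← hi]
      exact ((hzc b hb).zpow_left i).inv_inv
    have e : a * b * a⁻¹ * b⁻¹ = a * b * (a * b) * (a * a)⁻¹ * (b * b)⁻¹ := by
      calc a * b * a⁻¹ * b⁻¹ = a * b * (a * b) * (b⁻¹ * (a * a)⁻¹) * b⁻¹ := by group
        _ = _ := by rw [← hca.eq]; group
    rw [e]
    exact mul_mem (mul_mem (hsq _ (mul_mem ha hb)) (inv_mem (hsq a ha))) (inv_mem (hsq b hb))
  let Z' : Subgroup G := K.E ⊓ centralizer (K.E : Set G)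
  have hZsub : K.Sub Z' := ⟨inf_le_left, mem_inf.2 ⟨K.z_mem_E, mem_centralizer_iff.2 fun a ha => (hzc a ha).symm.eq⟩,
    fun c hc d hd => mem_inf.2 ⟨K.E_conj (K.C_le hc) (mem_inf.1 hd).1, mem_centralizer_iff.2 fun a ha => by
      have ha' : c⁻¹ * a * c ∈ K.E := by
        have := K.E_conj (inv_mem (K.C_le hc)) ha
        rwa [inv_inv] at this
      have h := mem_centralizer_iff.1 (mem_inf.1 hd).2 _ ha'
      calc a * (c * d * c⁻¹) = c * (c⁻¹ * a * c * d) * c⁻¹ := by group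
        _ = _ := by rw [h]; group⟩⟩
  have hcen : Z' = zpowers K.z := by
    refine (htriv Z' hZsub).resolve_right fun e => ?_
    have hab : ∀ a ∈ K.E, ∀ b ∈ K.E, Commute a b := fun a ha b hb =>
      mem_centralizer_iff.1 (mem_inf.1 (e.ge hb)).2 a ha
    let Om : Subgroup G :=
      { carrier := {a | a ∈ K.E ∧ a * a = 1}
        one_mem' := ⟨one_mem _, mul_one 1⟩
        mul_mem' := fun {a b} ha hb => ⟨mul_mem ha.1 hb.1, by
          rw [show a * b * (a * b) = a * (b * a) * b by group, ← (hab a ha.1 b hb.1).eq,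
            show a * (a * b) * b = (a * a) * (b * b) by group, ha.2, hb.2, one_mul]⟩
        inv_mem' := fun {a} ha => ⟨inv_mem ha.1, by rw [← _root_.mul_inv_rev, ha.2, inv_one]⟩ }
    have hOm : K.Sub Om := ⟨fun a ha => ha.1, ⟨K.z_mem_E, K.zz⟩, fun c hc d hd =>
      ⟨K.E_conj (K.C_le hc) hd.1, by
        rw [show c * d * c⁻¹ * (c * d * c⁻¹) = c * (d * d) * c⁻¹ by group, hd.2]; group⟩⟩
    rcases htriv Om hOm with e' | e'
    · let sq : K.E →* G := MonoidHom.mk' (fun a => (a : G) * a) fun a b => by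
        show (a : G) * b * (a * b) = a * a * (b * b)
        calc (a : G) * b * (a * b) = a * ((b : G) * a) * b := by group
          _ = _ := by rw [← (hab a a.2 b b.2).eq]; group
      have h1 : Nat.card sq.range ≤ 2 := by
        rw [← K.hz, ← Nat.card_zpowers]
        refine card_le_of_le ?_
        rintro _ ⟨a, rfl⟩
        exact hsq a a.2
      have h2 : Nat.card sq.ker ≤ 2 := by
        rw [← K.hz, ← Nat.card_zpowers, ← e']
        exact Nat.card_le_card_of_injective (fun a => (⟨a.1.1, a.1.2, a.2⟩ : Om)) fun a b h =>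
          Subtype.ext (Subtype.ext (congrArg (fun u : Om => (u : G)) h))
      have h3 := sq.ker.card_mul_index
      rw [index_ker, h13] at h3
      have := Nat.mul_le_mul h2 h1
      omega
    · have hne : (K.E ⊓ centralizer ({K.y} : Set G)) ≠ zpowers K.z := fun e1 => by
        rw [e1, Nat.card_zpowers, K.hz] at h32
        norm_num at h32
      refine F.no_elem K.φ.range ⟨⟨⟨?_⟩⟩, ?_⟩
        ((Nat.card_congr (MonoidHom.ofInjective (K.φ_inj hne)).toEquiv).symm.trans h32)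
      · rintro ⟨_, a, rfl⟩ ⟨_, b, rfl⟩
        refine Subtype.ext ?_
        show K.φ a * K.φ b = K.φ b * K.φ a
        rw [← map_mul, ← map_mul]
        exact congrArg K.φ (Subtype.ext (hab a (mem_inf.1 a.2).1 b (mem_inf.1 b.2).1).eq)
      · rintro _ ⟨a, rfl⟩
        rw [← map_pow, show a ^ 2 = 1 from Subtype.ext (by
          rw [coe_pow, pow_two]; exact (e'.ge (mem_inf.1 a.2).1).2), map_one]
  let zE : K.E := ⟨K.z, K.z_mem_E⟩
  have hmem : ∀ a : K.E, a ∈ zpowers zE ↔ (a : G) ∈ zpowers K.z := fun a => by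
    constructor
    · rintro ⟨i, rfl⟩; exact ⟨i, by simp [zE]⟩
    · rintro ⟨i, hi⟩; exact ⟨i, Subtype.ext (by simpa [zE] using hi)⟩
  refine LargeExtra.isExtraspecial_of (coreAt_isPGroup K.z) (z := zE)
    ((Subgroup.orderOf_coe zE).symm.trans K.hz) (fun a => ?_) (fun a b => ?_) (fun a => ?_) ?_
  · rw [hmem, ← hcen]
    exact ⟨fun h => mem_inf.2 ⟨a.2, mem_centralizer_iff.2 fun b hb => (congrArg Subtype.val (h ⟨b, hb⟩)).symm⟩,
      fun h b => Subtype.ext (mem_centralizer_iff.1 (mem_inf.1 h).2 b b.2).symm⟩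
  · rw [hmem]; simpa [commutatorElement_def] using hcomm a a.2 b b.2
  · rw [hmem]; simpa [pow_two] using hsq a a.2
  · by_contra hab
    push Not at hab
    refine hEne ?_
    rw [← hcen]
    exact (le_antisymm inf_le_left fun a ha => mem_inf.2 ⟨ha, mem_centralizer_iff.2 fun b hb =>
      congrArg Subtype.val (hab ⟨b, hb⟩ ⟨a, ha⟩)⟩).symm

end Cfg

end Cfsg.Agent.M22Six
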