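import Cfsg.Prelude.Def_JankoFourType
import Cfsg.Agent.Lib.Golay.Mathieu
import Cfsg.Agent.Lib.LargeExtra.Setting

/-!
A group with an element `x` of order three whose centraliser is the sixfold cover of the Mathieu group on 22
points, `x` not weakly closed: the data at the involution `z` of that centre.
-/

set_option autoImplicit false

namespace Cfsg.Agent.M22Six

open Subgroup
open Cfsg.Agent.LargeExtra (coreAt)

/-- The data: the centraliser of `x`, a conjugate `y` of `x` in it off `⟨x⟩`, and the constraint at `z`. -/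
structure Cfg (G : Type*) [Group G] [Finite G] where
  x : G
  y : G
  z : G
  /-- an element moving `x` to `y` -/
  g : G
  hx : orderOf x = 3
  hz : orderOf z = 2
  z_comm : ∀ c : G, Commute c x → Commute c z
  /-- the map onto the Mathieu group -/
  π : ↥(centralizer ({x} : Set G)) →* ↥Cfsg.Spor.M22
  π_surj : Function.Surjective π
  π_ker : ∀ c : ↥(centralizer ({x} : Set G)), π c = 1 ↔ ∃ i j : ℕ, (c : G) = x ^ i * z ^ j
  perfect : commutator ↥(centralizer ({x} : Set G)) = ⊤
  card_C : Nat.card ↥(centralizer ({x} : Set G)) = 2661120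
  g_x : g * x * g⁻¹ = y
  y_comm : Commute y x
  y_ne : ∀ i : ℕ, y ≠ x ^ i
  /-- the elements of order three off `⟨x⟩` are conjugate in the centraliser -/
  conj_y : ∀ a : G, Commute a x → a ^ 3 = 1 → (∀ i : ℕ, a ≠ x ^ i) → ∃ c : G, Commute c x ∧ c * y * c⁻¹ = a
  inverted : ∃ i : G, i * x * i⁻¹ = x⁻¹
  sylow : ¬ 81 ∣ Nat.card G
  /-- the centraliser of `z` is constrained -/
  core : centralizer ({z} : Set G) ⊓ centralizer (coreAt z : Set G) ≤ coreAt z

end Cfsg.Agent.M22Six
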