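import Cfsg.Agent.Lib.Golay.FusionMathieu

/-!
Two facts on the Sylow 2-subgroups of the Mathieu group on 22 points: no elementary abelian subgroup of order 32,
and no element of order three normalises a Sylow 2-subgroup.
-/

set_option autoImplicit false
set_option maxRecDepth 20000
set_option linter.style.haveILetI false

namespace Cfsg.Agent.M22Six

open Cfsg Cfsg.Agent.PermCert Cfsg.Agent.Golay Cfsg.Agent.Golay.SB Cfsg.Agent.Golay.Fus Cfsg.Agent.Golay.Cert

local notation "Pm" => Equiv.Perm GolayPt

namespace SylTwo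

/-- The listed elements. -/
def elt (i : ℕ) : Elt := s22Elts.getD i (0, 0)

/-- Composition of codes. -/
def mc (a b : ℕ) : ℕ := (mul 5 24 (elt a) (elt b)).1

/-- The indices of the involutions. -/
def invs : List ℕ :=
  (List.range 128).filter fun i => !(eqB (elt i).1 (idCode 5 24)) && eqB (mc i i) (idCode 5 24)

/-- Two indices commute. -/
def comB (a b : ℕ) : Bool := eqB (mc a b) (mc b a)

theorem few_commuting : invs.all (fun i => invs.all fun j => Nat.beq i j || !(comB i j) ||
    Nat.blt ((invs.filter fun k => comB i k && comB j k).length) 31) = true := by decide +kernel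

/-- The Sylow subgroup. -/
def Y : Subgroup Pm := Subgroup.closure {σ : Pm | ∃ g ∈ s22Gens, σ = permOf g}

theorem card_Y : Nat.card Y = 128 := by
  let f : Fin 128 → Y := fun k => ⟨_, spec22.list_mem k k.2⟩
  refine ((Nat.card_fin 128).symm.trans (Nat.card_eq_of_bijective f ⟨fun a b h => ?_, fun σ => ?_⟩)).symm
  · exact Fin.ext (spec22.inj a a.2 b b.2 (congrArg Subtype.val h))
  · obtain ⟨k, hk, hσ⟩ := spec22.mem_list σ σ.2
    exact ⟨⟨k, hk⟩, Subtype.ext hσ.symm⟩

theorem hM22 : Spor.M22 = stabIn m22Inv := sporM22_eq.trans stabIn_m22.symm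

theorem Y_le : Y ≤ Spor.M22 := by
  have h := cert22
  simp only [certOK, Bool.and_eq_true, List.all_eq_true] at h
  rw [Y, Subgroup.closure_le]
  rintro _ ⟨g, hg, rfl⟩
  exact hM22.symm ▸ permOf_mem_stabIn (spec22.gvalid g hg) (h.1.1.1 g hg)

theorem eqB_of_code {a b : ℕ} (h : ∀ i < 24, get 5 a i = get 5 b i) : eqB a b = true :=
  allBelow_of_forall _ fun i hi => beq_of (h i hi)

theorem get_mc {a b : ℕ} (ha : a < 128) (hb : b < 128) {i : ℕ} (hi : i < 24) :
    get 5 (mc a b) i = idx ((permOf (elt a) * permOf (elt b)) (pt ⟨i, hi⟩)) := by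
  rw [Equiv.Perm.mul_apply, idx_permOf (e := elt a) (spec22.valid a ha),
    idx_permOf (e := elt b) (spec22.valid b hb), idx_pt, mc, PermCert.mul, get_comp _ _ _ _ _ hi]

/-- A 2-subgroup embeds in the listed Sylow subgroup. -/
theorem exists_emb {B : Subgroup ↥Spor.M22} (hB : IsPGroup 2 B) :
    ∃ f : ↥Spor.M22 →* Pm, Function.Injective f ∧ (∀ x, f x ∈ Spor.M22) ∧ (∀ x ∈ B, f x ∈ Y) := by
  classical
  haveI : Fact (Nat.Prime 2) := ⟨Nat.prime_two⟩
  have hcard : Nat.card (Y.subgroupOf Spor.M22) = 2 ^ (Nat.card ↥Spor.M22).factorization 2 := by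
    rw [Nat.card_congr (Subgroup.subgroupOfEquivOfLe Y_le).toEquiv, card_Y, card_sporM22,
      show (443520 : ℕ) = 2 ^ 7 * 3465 by norm_num, factorization_two _ _ (by norm_num)]
    norm_num
  obtain ⟨S, hS⟩ := hB.exists_le_sylow
  obtain ⟨c, hc⟩ := MulAction.exists_smul_eq ↥Spor.M22 S (Sylow.ofCard _ hcard)
  refine ⟨(Spor.M22).subtype.comp (MulAut.conj c).toMonoidHom,
    Subtype.val_injective.comp (MulAut.conj c).injective, fun x => (MulAut.conj c x).2, fun x hx => ?_⟩
  have h1 : ((c • S : Sylow 2 ↥Spor.M22) : Subgroup ↥Spor.M22) = Y.subgroupOf Spor.M22 := by rw [hc]; rfl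
  show c * x * c⁻¹ ∈ Y.subgroupOf Spor.M22
  rw [← h1, Sylow.coe_subgroup_smul]
  exact Subgroup.smul_mem_pointwise_smul _ (MulAut.conj c) _ (hS hx)

end SylTwo

open SylTwo

/-- The Mathieu group on 22 points has no elementary abelian subgroup of order 32. -/
theorem no_elementary_32 (B : Subgroup ↥Spor.M22) (hsq : ∀ a ∈ B, a * a = 1) (hcard : Nat.card B = 32) :
    False := by
  classical
  obtain ⟨f, hinj, -, hY⟩ := exists_emb (IsPGroup.of_card (p := 2) (n := 5) (G := B) (by rw [hcard]; norm_num))
  choose k hk hfk using fun a : B => spec22.mem_list _ (hY _ a.2)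
  have hkinj : ∀ a b : B, k a = k b → a = b := fun a b e =>
    Subtype.ext (hinj ((hfk a).trans ((congrArg (fun i => permOf (s22Elts.getD i (0, 0))) e).trans (hfk b).symm)))
  have hcomB : ∀ a b : B, comB (k a) (k b) = true := fun a b => eqB_of_code fun i hi => by
    rw [get_mc (hk a) (hk b) hi, get_mc (hk b) (hk a) hi]
    show idx ((permOf (s22Elts.getD (k a) (0, 0)) * permOf (s22Elts.getD (k b) (0, 0))) _) =
      idx ((permOf (s22Elts.getD (k b) (0, 0)) * permOf (s22Elts.getD (k a) (0, 0))) _)
    rw [← hfk, ← hfk, ← map_mul, ← map_mul]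
    have hab : (a : ↥Spor.M22) * b = b * a := by
      calc (a : ↥Spor.M22) * b = a * ((a * b) * (a * b)) * b := by rw [hsq _ (B.mul_mem a.2 b.2), mul_one]
        _ = (a * a) * (b * a) * (b * b) := by group
        _ = b * a := by rw [hsq _ a.2, hsq _ b.2, one_mul, mul_one]
    rw [hab]
  have hinvs : ∀ a : B, a ≠ 1 → k a ∈ invs := fun a ha => by
    simp only [invs, List.mem_filter, List.mem_range, Bool.and_eq_true, Bool.not_eq_true']
    refine ⟨hk a, ?_, eqB_of_code fun i hi => ?_⟩
    · by_contra h
      rw [Bool.not_eq_false] at h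
      refine ha (Subtype.ext (hinj ((hfk a).trans ?_)))
      refine ((map_one f).symm ▸ Equiv.ext fun p => idx_injective ?_ :
        permOf (s22Elts.getD (k a) (0, 0)) = f ↑(1 : B))
      show idx ((permOf (elt (k a))) p) = idx ((1 : Pm) p)
      rw [idx_permOf (e := elt (k a)) (spec22.valid _ (hk a)),
        Nat.eq_of_beq_eq_true (allBelow_spec _ _ h (idx p) (idx_lt p)),
        get_idCode _ _ _ (by norm_num) (idx_lt p), Equiv.Perm.one_apply]
    · rw [get_mc (hk a) (hk a) hi]
      show idx ((permOf (s22Elts.getD (k a) (0, 0)) * permOf (s22Elts.getD (k a) (0, 0))) _) = _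
      rw [← hfk, ← map_mul, hsq _ a.2, map_one, get_idCode _ _ _ (by norm_num) hi, Equiv.Perm.one_apply, idx_pt]
  haveI : Fintype B := Fintype.ofFinite B
  have h31 : (Finset.univ.erase (1 : B)).card = 31 := by
    rw [Finset.card_erase_of_mem (Finset.mem_univ _), Finset.card_univ, ← Nat.card_eq_fintype_card, hcard]
  obtain ⟨a, ha, b, hb, hab⟩ := Finset.one_lt_card.1 (show 1 < (Finset.univ.erase (1 : B)).card by omega)
  simp only [Finset.mem_erase, Finset.mem_univ, and_true] at ha hb
  have h := List.all_eq_true.1 (List.all_eq_true.1 few_commuting _ (hinvs a ha)) _ (hinvs b hb)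
  simp only [Bool.or_eq_true, Nat.beq_eq, hcomB, Bool.not_true, Bool.false_eq_true, or_false,
    Nat.blt_eq] at h
  rcases h with h | h
  · exact hab (hkinj a b h)
  · have hd : (invs.filter fun i => comB (k a) i && comB (k b) i).Nodup :=
      ((List.nodup_range.filter _).filter _)
    have hle : ((Finset.univ.erase (1 : B)).image k) ⊆ (invs.filter fun i => comB (k a) i && comB (k b) i).toFinset := by
      intro i hi
      simp only [Finset.mem_image, Finset.mem_erase, Finset.mem_univ, and_true] at hi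
      obtain ⟨c, hc, rfl⟩ := hi
      simp [hinvs c hc, hcomB]
    have := Finset.card_le_card hle
    rw [Finset.card_image_of_injective _ hkinj, h31, List.toFinset_card_of_nodup hd] at this
    omega

/-- No element of order three normalises a Sylow 2-subgroup of the Mathieu group on 22 points. -/
theorem no_three_normalizes_128 (P : Subgroup ↥Spor.M22) (hP : Nat.card P = 128) (n : ↥Spor.M22)
    (hn : n ∈ Subgroup.normalizer (P : Set ↥Spor.M22)) (ho : orderOf n = 3) : False := by
  classical
  obtain ⟨f, hinj, hM, hY⟩ := exists_emb (IsPGroup.of_card (p := 2) (n := 7) (G := P) (by rw [hP]; norm_num))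
  have himg : P.map f = Y := by
    refine Subgroup.eq_of_le_of_card_ge (by rintro _ ⟨x, hx, rfl⟩; exact hY x hx) ?_
    rw [card_Y, Nat.card_congr (P.equivMapOfInjective f hinj).symm.toEquiv, hP]
  have hcert := cert22
  simp only [certOK, Bool.and_eq_true] at hcert
  have h1 : f n = 1 := by
    refine run_fix spec22 sel22 ?_ (fun σ hσ => ?_) ops22 _ hcert.2 fun A hA => ?_
    · rw [orderOf_injective f hinj, ho]; decide
    · obtain ⟨y, hy, rfl⟩ : σ ∈ P.map f := himg.symm ▸ hσ
      rw [← map_inv, ← map_mul, ← map_mul]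
      exact hY _ ((Subgroup.mem_normalizer_iff.1 hn y).1 hy)
    · rcases List.mem_cons.1 hA with rfl | hA
      · have : maskSet 16777215 = Finset.univ := by
          ext p; simp [mem_maskSet, testBit_full (idx_lt p)]
        rw [this, Finset.smul_finset_univ]
      · exact (hM22 ▸ hM n : f n ∈ stabIn m22Inv).2 A hA
  rw [← map_one f] at h1
  rw [hinj h1, orderOf_one] at ho
  omega

end Cfsg.Agent.M22Six
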