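import Cfsg.Agent.Lib.M22Six.Action
import Cfsg.Agent.Lib.JankoFour.Reduce.Entry

/-!
The centraliser of the involution in the sixfold M22 configuration has the shape of that of the fourth Janko group.
-/

set_option autoImplicit false
set_option maxRecDepth 20000
set_option linter.style.haveILetI false
set_option linter.unusedSectionVars false

namespace Cfsg.Agent.M22Six.Cfg

open Subgroup
open Cfsg.Agent.LargeFischer (Ctx QG VQ)
open Cfsg.Agent.LargeExtra (coreAt coreAt_le mem_centralizer_one)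
open scoped commutatorElement

variable {G : Type*} [Group G] [Finite G] (K : Cfg G)

theorem M22_center {a : ↥Cfsg.Spor.M22} (ha : ∀ b, Commute a b) : a = 1 := by
  haveI := Golay.isSimpleGroup_sporM22
  have hmem : a ∈ center ↥Cfsg.Spor.M22 := mem_center_iff.2 fun b => (ha b).eq.symm
  rcases (inferInstance : (center ↥Cfsg.Spor.M22).Normal).eq_bot_or_eq_top with e | e
  · rw [e, mem_bot] at hmem
    exact hmem
  · exfalso
    refine J4Module.gen_ne_one ?_
    have hc : J4Module.gen 1 * J4Module.gen 0 = J4Module.gen 0 * J4Module.gen 1 :=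
      (mem_center_iff.1 (e ▸ mem_top (J4Module.gen 0) : J4Module.gen 0 ∈ center ↥Cfsg.Spor.M22) _)
    rw [J4Module.gen_yx] at hc
    have h2 : J4Module.gen 0 ^ 2 = 1 := mul_left_cancel (a := J4Module.gen 0) (by
      rw [mul_one, ← pow_succ']; exact mul_right_cancel hc)
    exact (pow_one _).symm.trans (pow_gcd_eq_one.2 ⟨h2, J4Module.gen_pow11⟩ :)

/-- An element inverting `x` centralises `z`. -/
theorem inverter_mem {i : G} (hi : i * K.x * i⁻¹ = K.x⁻¹) : i ∈ centralizer ({K.z} : Set G) := by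
  refine mem_centralizer_one.2 (mul_inv_eq_iff_eq_mul.1 ?_)
  set w := i * K.z * i⁻¹ with hw
  have hCi : ∀ a : G, Commute a K.x → Commute (i⁻¹ * a * i) K.x := fun a ha => by
    have h1 := ha.inv_right.conj i⁻¹
    rw [inv_inv, ← hi, show i⁻¹ * (i * K.x * i⁻¹) * i = K.x by group] at h1
    exact h1
  have hwc : ∀ a : G, Commute a K.x → Commute w a := fun a ha => by
    have h1 := (K.z_comm _ (hCi a ha)).symm.conj i
    rwa [show i * (i⁻¹ * a * i) * i⁻¹ = a by group] at h1
  have hwx : Commute w K.x := hwc K.x (Commute.refl _)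
  have hπ : K.π ⟨w, K.mem_C.2 hwx⟩ = 1 := M22_center fun b => by
    obtain ⟨b', rfl⟩ := K.π_surj b
    show _ * _ = _ * _
    rw [← map_mul, ← map_mul]
    exact congrArg K.π (Subtype.ext (hwc b' (K.mem_C.1 b'.2)).eq)
  rcases K.two_kernel hπ (k := 1) (by
      show w ^ 2 ^ 1 = 1
      rw [pow_one, hw, conj_pow, K.z2]; group) with e | e
  · exact absurd (conj_eq_one_iff.1 e) K.z_ne
  · exact e

theorem jankoFour (F : Facts) : Cfsg.IsOfJankoFourTypeAt K.z := by
  haveI : Fact (Nat.Prime 2) := ⟨Nat.prime_two⟩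
  have h := K.ctx F
  haveI hQn : K.Q.Normal := FiniteGroup.pCore_normal 2
  obtain ⟨i, hi⟩ := K.inverted
  let iH : ↥(centralizer ({K.z} : Set G)) := ⟨i, K.inverter_mem hi⟩
  set p1 := K.pi1 h with hp1
  set ρ := h.rhoC with hρ
  let M : Subgroup ↥(centralizer ({K.z} : Set G)) :=
    (centralizer ({p1} : Set (Equiv.Perm (VQ K.Q)))).comap ρ
  let N : Subgroup ↥(centralizer ({K.z} : Set G)) := (zpowers p1).comap ρ
  have hmemM : ∀ d, d ∈ M ↔ ρ d * p1 = p1 * ρ d := fun d => mem_centralizer_singleton_iff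
  have hp12 : p1 ^ 2 ≠ p1 := fun e => K.pi1_ne h (mul_left_cancel (a := p1)
    (by rw [mul_one, ← pow_two]; exact e))
  have hxM : ∀ n : ↥(centralizer ({K.z} : Set G)), Commute (n : G) K.x → n ∈ M := fun n hn =>
    (hmemM n).2 ((K.comm_xH hn).map ρ).eq
  have hQM : K.Q ≤ M := fun q hq => (hmemM q).2 (by
    rw [MonoidHom.mem_ker.1 (h.rhoC_Q hq), one_mul, mul_one])
  have hdecM : ∀ d ∈ M, ∃ q ∈ K.Q, ∃ n : ↥(centralizer ({K.z} : Set G)), Commute (n : G) K.x ∧ d = q * n := by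
    intro d hd
    rcases K.decomp h d with ⟨-, e⟩ | ⟨e, -⟩
    · exact e
    · exact absurd (mul_right_cancel (e.symm.trans ((hmemM d).1 hd))) hp12
  have hi2 : ρ iH * p1 = p1 ^ 2 * ρ iH := by
    have e : iH * K.xH = K.xH ^ 2 * iH := Subtype.ext (by
      show i * K.x = K.x ^ 2 * i
      rw [← mul_inv_eq_iff_eq_mul, hi]
      exact inv_eq_of_mul_eq_one_right (by rw [← pow_succ', K.x3]))
    rw [hp1, pi1, ← hρ, ← map_mul, e, map_mul, map_pow]
  have hM2 : M.index = 2 := by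
    refine index_eq_two_iff.2 ⟨iH, fun d => ?_⟩
    have hp14 : p1 ^ 2 * p1 ^ 2 = p1 := by
      rw [← pow_add, pow_succ, K.pi1_cube h, one_mul]
    rcases K.decomp h d with ⟨e, -⟩ | ⟨e, -⟩
    · refine Or.inr ⟨(hmemM d).2 e, fun hh => hp12 (mul_right_cancel (b := ρ d * ρ iH) ?_)⟩
      have h2 := (hmemM _).1 hh
      rw [map_mul] at h2
      rw [← h2, mul_assoc, hi2, ← mul_assoc, ← (show Commute (ρ d) (p1 ^ 2) from
        (show Commute (ρ d) p1 from e).pow_right 2).eq, mul_assoc]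
    · refine Or.inl ⟨(hmemM _).2 ?_, fun hh => hp12 (mul_right_cancel (e.symm.trans ((hmemM d).1 hh)))⟩
      have e2 : ρ d * p1 ^ 2 = p1 * ρ d := by
        rw [pow_two, ← mul_assoc, e, mul_assoc, e, ← mul_assoc, hp14]
      rw [map_mul, mul_assoc, hi2, ← mul_assoc, e2, mul_assoc]
  haveI hMn : M.Normal := normal_of_index_eq_two hM2
  haveI hNn : N.Normal := by
    refine ⟨fun n hn d => ?_⟩
    obtain ⟨j, hj⟩ := mem_zpowers_iff.1 hn
    show ρ (d * n * d⁻¹) ∈ zpowers p1
    rw [map_mul, map_mul, map_inv, ← hj, ← conj_zpow]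
    refine zpow_mem ?_ j
    rcases K.decomp h d with ⟨e, -⟩ | ⟨e, -⟩ <;> rw [e, mul_inv_cancel_right]
    exacts [mem_zpowers _, pow_mem (mem_zpowers _) 2]
  have hQN : K.Q ≤ N := fun q hq => by
    show ρ q ∈ zpowers p1
    rw [MonoidHom.mem_ker.1 (h.rhoC_Q hq)]
    exact one_mem _
  have hNM : N ≤ M := fun n hn => (hmemM n).2 (by
    obtain ⟨j, hj⟩ := mem_zpowers_iff.1 hn
    rw [← hj]
    exact ((Commute.refl p1).zpow_left j).eq)
  have hQ : Cfsg.IsExtraspecial 2 K.Q :=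
    Qd.isExtraspecial_congr (K.Q.equivMapOfInjective _ (centralizer ({K.z} : Set G)).subtype_injective)
      (K.E_extraspecial F)
  have hcard : Nat.card ↥K.Q = 2 ^ 13 := by
    rw [← card_map_of_injective (centralizer ({K.z} : Set G)).subtype_injective]
    exact (K.core_card F).2.1
  have hNcard : Nat.card ↥N = 3 * Nat.card ↥K.Q := by
    have e1 := (ρ.comp N.subtype).ker.card_mul_index
    have e2 : (ρ.comp N.subtype).range = zpowers p1 := by
      refine le_antisymm ?_ (zpowers_le.2 ⟨⟨K.xH, show ρ K.xH ∈ zpowers p1 from mem_zpowers p1⟩, rfl⟩)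
      rintro _ ⟨n, rfl⟩
      exact n.2
    rw [index_ker, e2, Nat.card_zpowers, hp1, K.pi1_order h, ← MonoidHom.comap_ker, h.rhoC_ker,
      show Nat.card ↥(K.Q.comap N.subtype) = Nat.card ↥K.Q from
        Nat.card_congr (subgroupOfEquivOfLe hQN).toEquiv] at e1
    omega
  have hcent : ⁅M, N⁆ ≤ K.Q := by
    rw [← h.rhoC_ker, commutator_le]
    intro m hm n hn
    rw [MonoidHom.mem_ker, map_commutatorElement, commutatorElement_eq_one_iff_mul_comm]
    obtain ⟨j, hj⟩ := mem_zpowers_iff.1 hn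
    rw [← hj]
    exact ((show Commute (h.rhoC m) p1 from (hmemM m).1 hm).zpow_right j).eq
  let ι : ↥(centralizer ({K.x} : Set G)) →* ↥(centralizer ({K.z} : Set G)) :=
    inclusion fun _ hd => K.C_le (K.mem_C.1 hd)
  have hperf : M ≤ ⁅M, M⁆ ⊔ K.Q := by
    intro d hd
    obtain ⟨q, hq, n, hn, rfl⟩ := hdecM d hd
    refine mul_mem (mem_sup_right hq) (mem_sup_left ?_)
    have h1 : n ∈ (commutator ↥(centralizer ({K.x} : Set G))).map ι := by
      rw [K.perfect]
      exact ⟨⟨n, K.mem_C.2 hn⟩, mem_top _, rfl⟩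
    rw [_root_.commutator_def, map_commutator] at h1
    refine commutator_mono ?_ ?_ h1 <;>
    · rintro _ ⟨a, -, rfl⟩
      exact hxM _ (K.mem_C.1 a.2)
  have h2c : centralizer (K.Q : Set ↥(centralizer ({K.z} : Set G))) ≤ K.Q := fun c hc => by
    obtain ⟨c', hc', e⟩ := h.ker c c.2 (by
      rintro _ ⟨q, hq, rfl⟩
      exact congrArg Subtype.val (mem_centralizer_iff.1 hc q hq).symm)
    exact Subtype.ext e ▸ hc'
  have hNC : ∀ a : ↥(centralizer ({K.x} : Set G)), ι a ∈ N → K.π a = 1 := fun a ha => by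
    obtain ⟨j, hj⟩ := (isOfFinOrder_iff_pow_eq_one.2 ⟨3, by norm_num, K.pi1_cube h⟩).mem_powers_iff_mem_zpowers.2
      (ha : ρ (ι a) ∈ zpowers p1)
    exact (K.eq_of_rho h (m := K.π a) (c := ι a) ⟨K.mem_C.1 a.2, rfl⟩
      (by simpa using K.lift_pow K.lift_x j : K.Lift 1 (K.xH ^ j)) (by rw [map_pow]; exact hj.symm))
  have hout : ∀ c : ↥(centralizer ({K.z} : Set G)), (∀ m ∈ M, c * m * c⁻¹ * m⁻¹ ∈ N) → c ∈ M := by
    intro c hc
    rcases K.decomp h c with ⟨e, -⟩ | ⟨e, q, hq, n, hn, hcn⟩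
    · exact (hmemM c).2 e
    · exfalso
      have hnC : ∀ a : G, Commute a K.x → Commute ((n : G) * a * (n : G)⁻¹) K.x := fun a ha => by
        have h1 := (ha.pow_right 2).conj (n : G)
        rw [show (n : G) * K.x ^ 2 * (n : G)⁻¹ = ((n : G) * K.x * (n : G)⁻¹) ^ 2 by rw [conj_pow], hn, ← pow_mul,
          pow_eq_pow_mod (2 * 2) K.x3, pow_one] at h1
        exact h1
      let α : ↥(centralizer ({K.x} : Set G)) → ↥(centralizer ({K.x} : Set G)) := fun a =>
        ⟨(n : G) * a * (n : G)⁻¹ * (a : G)⁻¹, K.mem_C.2 ((hnC a (K.mem_C.1 a.2)).mul_left (K.mem_C.1 a.2).inv_left)⟩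
      have hα : ∀ a, α a ∈ center ↥(centralizer ({K.x} : Set G)) := fun a => by
        have hN' : ι (α a) ∈ N := by
          have e1 : ι (α a) = q⁻¹ * (c * ι a * c⁻¹ * (ι a)⁻¹) * (ι a * q * (ι a)⁻¹) := by
            refine Subtype.ext ?_
            show (n : G) * a * (n : G)⁻¹ * (a : G)⁻¹ = _
            simp only [hcn, coe_mul, coe_inv, mul_inv_rev]
            show _ = (q : G)⁻¹ * ((q : G) * n * (a : G) * ((n : G)⁻¹ * (q : G)⁻¹) * (a : G)⁻¹) *
              ((a : G) * q * (a : G)⁻¹)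
            group
          rw [e1]
          exact mul_mem (mul_mem (inv_mem (hQN hq)) (hc _ (hxM _ (K.mem_C.1 a.2))))
            (hQN (hQn.conj_mem q hq _))
        obtain ⟨r, s, e2⟩ := (K.π_ker _).1 (hNC _ hN')
        refine mem_center_iff.2 fun b => Subtype.ext ?_
        show (b : G) * (α a : G) = (α a : G) * b
        rw [e2]
        exact (((K.mem_C.1 b.2).pow_right r).mul_right ((K.z_comm _ (K.mem_C.1 b.2)).pow_right s)).eq
      let θ : ↥(centralizer ({K.x} : Set G)) →* ↥(center ↥(centralizer ({K.x} : Set G))) :=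
        MonoidHom.mk' (fun a => ⟨α a, hα a⟩) fun a b => Subtype.ext (Subtype.ext (by
          have hb : (a : G)⁻¹ * (α b : G) = (α b : G) * (a : G)⁻¹ :=
            congrArg Subtype.val (mem_center_iff.1 (hα b) a⁻¹)
          show (n : G) * ((a : G) * b) * (n : G)⁻¹ * ((a : G) * b)⁻¹ =
            (n : G) * a * (n : G)⁻¹ * (a : G)⁻¹ * (α b : G)
          rw [mul_assoc _ (a : G)⁻¹ (α b : G), hb]
          show _ = (n : G) * a * (n : G)⁻¹ * ((n : G) * b * (n : G)⁻¹ * (b : G)⁻¹ * (a : G)⁻¹)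
          group))
      have hθ : θ ⟨K.x, K.mem_C.2 (Commute.refl _)⟩ = 1 := by
        let _ : CommGroup ↥(center ↥(centralizer ({K.x} : Set G))) :=
          { mul_comm := fun a b => Subtype.ext (mem_center_iff.1 b.2 a) }
        exact MonoidHom.mem_ker.1 (Abelianization.commutator_subset_ker θ (K.perfect.ge (mem_top _)))
      have h1 : (n : G) * K.x * (n : G)⁻¹ * K.x⁻¹ = 1 := congrArg Subtype.val (congrArg Subtype.val hθ)
      rw [hn, mul_inv_eq_one] at h1
      exact K.x_ne (mul_left_cancel (a := K.x) (by rw [mul_one, ← pow_two]; exact h1))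
  have hM22 : Cfsg.Spor.IsoM22 (↥M ⧸ N.subgroupOf M) := by
    let φ : ↥(centralizer ({K.x} : Set G)) →* ↥M ⧸ N.subgroupOf M :=
      (QuotientGroup.mk' _).comp (ι.codRestrict M fun a => hxM _ (K.mem_C.1 a.2))
    have hφs : Function.Surjective φ := by
      intro w
      obtain ⟨d, rfl⟩ := QuotientGroup.mk'_surjective _ w
      obtain ⟨q, hq, n, hn, e⟩ := hdecM d d.2
      refine ⟨⟨n, K.mem_C.2 hn⟩, ?_⟩
      refine QuotientGroup.eq.2 ?_
      rw [mem_subgroupOf]
      show n⁻¹ * (d : ↥(centralizer ({K.z} : Set G))) ∈ N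
      rw [e, ← mul_assoc, show n⁻¹ * q * n = n⁻¹ * q * n⁻¹⁻¹ by group]
      exact hQN (hQn.conj_mem q hq _)
    have hk : φ.ker = K.π.ker := by
      ext a
      rw [MonoidHom.mem_ker, MonoidHom.mem_ker]
      show ((QuotientGroup.mk _ : ↥M ⧸ N.subgroupOf M) = 1) ↔ _
      rw [QuotientGroup.eq_one_iff, mem_subgroupOf]
      refine ⟨hNC a, fun ha => ?_⟩
      obtain ⟨r, s, e⟩ := (K.π_ker a).1 ha
      let cz : ↥(centralizer ({K.z} : Set G)) := ⟨K.z ^ s, pow_mem (mem_centralizer_one.2 rfl) s⟩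
      show ρ (ι a) ∈ zpowers p1
      rw [show ι a = K.xH ^ r * cz from Subtype.ext e, map_mul, hρ, K.rho_z h (c := cz) (j := s) rfl, mul_one,
        map_pow]
      exact pow_mem (mem_zpowers _) r
    exact ⟨(QuotientGroup.quotientKerEquivOfSurjective φ hφs).symm.trans ((QuotientGroup.quotientMulEquivOfEq hk).trans
      (QuotientGroup.quotientKerEquivOfSurjective K.π K.π_surj))⟩
  exact JankoFour.Reduce.type_at_of_centraliser K.hz hQN hNM hM2 hQ hcard hNcard hcent hperf h2c hout hM22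

end Cfsg.Agent.M22Six.Cfg
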