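import Cfsg.Agent.Lib.M22Six.Defs
import Cfsg.Agent.Lib.JankoFour.M22Three
import Mathlib.GroupTheory.Transfer

/-!
From an element of order three whose centraliser is the perfect sixfold cover of the Mathieu group on 22 points, in
a group which is not 3-normal, to the data.
-/

set_option autoImplicit false
set_option linter.style.haveILetI false
set_option linter.unusedSectionVars false

namespace Cfsg.Agent.M22Six

open Subgroup
open Cfsg.Agent.LargeExtra (coreAt)

theorem three_pow_le {n : ℕ} (h : 3 ^ n ∣ 443520) : n ≤ 2 := by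
  by_contra hn
  exact absurd ((pow_dvd_pow 3 (show 3 ≤ n by omega)).trans h) (by decide)

theorem three_pow_eq {n : ℕ} (h : 3 ^ n ∣ 2661120) (h3 : 27 ∣ 3 ^ n) : n = 3 := by
  have h1 : n ≤ 3 := by
    by_contra hn
    exact absurd ((pow_dvd_pow 3 (show 4 ≤ n by omega)).trans h) (by decide)
  interval_cases n <;> revert h3 <;> decide

variable {G : Type*} [Group G] [Finite G] {x : G}

/-- The centre of a centraliser which is generated by the element and an involution. -/
theorem exists_centre (hx : orderOf x = 3)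
    (hZ : IsCyclic ↥(center ↥(centralizer ({x} : Set G))))
    (hZ6 : Nat.card ↥(center ↥(centralizer ({x} : Set G))) = 6) :
    ∃ z : G, orderOf z = 2 ∧ (∀ c : G, Commute c x → Commute c z) ∧
      ∀ c : ↥(centralizer ({x} : Set G)), c ∈ center ↥(centralizer ({x} : Set G)) ↔
        ∃ i j : ℕ, (c : G) = x ^ i * z ^ j := by
  haveI := hZ
  set H := centralizer ({x} : Set G)
  haveI : Fact (Nat.Prime 2) := ⟨Nat.prime_two⟩
  obtain ⟨⟨zH, hzc⟩, hzo⟩ := exists_prime_orderOf_dvd_card' (G := center ↥H) 2 (by rw [hZ6]; norm_num)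
  rw [Subgroup.orderOf_mk] at hzo
  have hxH : x ∈ H := mem_centralizer_singleton_iff.2 rfl
  set xH : ↥H := ⟨x, hxH⟩ with hxH'
  have hxo : orderOf xH = 3 := by rw [← Subgroup.orderOf_coe]; exact hx
  have hxc : xH ∈ center ↥H := mem_center_iff.2 fun c => Subtype.ext (mem_centralizer_singleton_iff.1 c.2)
  have hcomm : Commute xH zH := (mem_center_iff.1 hxc zH).symm
  have ho : orderOf (xH * zH) = 6 := by
    rw [hcomm.orderOf_mul_eq_mul_orderOf_of_coprime (by rw [hxo, hzo]; decide), hxo, hzo]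
  have hz : zpowers (xH * zH) = center ↥H :=
    eq_of_le_of_card_ge (zpowers_le.2 (mul_mem hxc hzc)) (by rw [hZ6, Nat.card_zpowers, ho])
  refine ⟨zH, by rw [Subgroup.orderOf_coe]; exact hzo, fun c hc => ?_, fun c => ⟨fun h => ?_, ?_⟩⟩
  · exact congrArg Subtype.val (mem_center_iff.1 hzc ⟨c, mem_centralizer_singleton_iff.2 hc.eq⟩)
  · obtain ⟨k, hk⟩ := (isOfFinOrder_of_finite (xH * zH)).mem_powers_iff_mem_zpowers.2 (hz.ge h)
    simp only at hk
    exact ⟨k, k, by rw [← hk, hcomm.mul_pow]; rfl⟩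
  · rintro ⟨i, j, hc⟩
    rw [show c = xH ^ i * zH ^ j from Subtype.ext hc]
    exact mul_mem (pow_mem hxc i) (pow_mem hzc j)

/-- The data, the constraint at the involution being given. -/
theorem exists_cfg (x : G) (hx : orderOf x = 3)
    (hperf : ⁅(⊤ : Subgroup ↥(centralizer ({x} : Set G))), (⊤ : Subgroup ↥(centralizer ({x} : Set G)))⁆ = ⊤)
    (hZ : IsCyclic ↥(center ↥(centralizer ({x} : Set G))))
    (hZ6 : Nat.card ↥(center ↥(centralizer ({x} : Set G))) = 6)
    (e : ↥(centralizer ({x} : Set G)) ⧸ center ↥(centralizer ({x} : Set G)) ≃* ↥Cfsg.Spor.M22)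
    (S : Sylow 3 G) (g : G)
    (hng : ((center ↥(S : Subgroup G)).map (S : Subgroup G).subtype).map (MulAut.conj g).toMonoidHom ≤ (S : Subgroup G))
    (hne : ((center ↥(S : Subgroup G)).map (S : Subgroup G).subtype).map (MulAut.conj g).toMonoidHom ≠
      ((center ↥(S : Subgroup G)).map (S : Subgroup G).subtype))
    (hcore : ∀ z : G, orderOf z = 2 → (∀ c : G, Commute c x → Commute c z) →
      centralizer ({z} : Set G) ⊓ centralizer (coreAt z : Set G) ≤ coreAt z) :
    Nonempty (Cfg G) := by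
  classical
  haveI h3 : Fact (Nat.Prime 3) := ⟨Nat.prime_three⟩
  obtain ⟨z, hz, hzc, hcen⟩ := exists_centre hx hZ hZ6
  set H := centralizer ({x} : Set G) with hH
  let π : ↥H →* ↥Cfsg.Spor.M22 := e.toMonoidHom.comp (QuotientGroup.mk' (center ↥H))
  have hsurj : Function.Surjective π := e.surjective.comp (QuotientGroup.mk'_surjective _)
  have hker0 : ∀ c : ↥H, π c = 1 ↔ c ∈ center ↥H := fun c => by
    show e (QuotientGroup.mk' _ c) = 1 ↔ _
    rw [map_eq_one_iff e e.injective]
    exact QuotientGroup.eq_one_iff c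
  have hker : ∀ c : ↥H, π c = 1 ↔ ∃ i j : ℕ, (c : G) = x ^ i * z ^ j := fun c => (hker0 c).trans (hcen c)
  have hcard : Nat.card ↥H = 2661120 := by
    rw [Subgroup.card_eq_card_quotient_mul_card_subgroup (center ↥H), hZ6, Nat.card_congr e.toEquiv,
      Golay.card_sporM22]
  have hx3 : x ^ 3 = 1 := by rw [← hx]; exact pow_orderOf_eq_one x
  have hz2 : z ^ 2 = 1 := by rw [← hz]; exact pow_orderOf_eq_one z
  have hxz : Commute x z := hzc x (Commute.refl x)
  have hxH : x ∈ H := mem_centralizer_singleton_iff.2 rfl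
  have hxcen : ∀ c : ↥H, Commute (c : G) x := fun c => mem_centralizer_singleton_iff.1 c.2
  -- the elements of order dividing three over the kernel are powers of `x`
  have hpow : ∀ a : G, a ^ 3 = 1 → (∃ i j : ℕ, a = x ^ i * z ^ j) → ∃ i, a = x ^ i := by
    rintro a ha ⟨i, j, rfl⟩
    refine ⟨i, ?_⟩
    rw [(hxz.pow_pow i j).mul_pow, ← pow_mul, ← pow_mul, mul_comm i, pow_mul, hx3, one_pow, one_mul,
      mul_comm j] at ha
    have : z ^ j = 1 := by
      rcases Nat.even_or_odd' j with ⟨k, rfl | rfl⟩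
      · rw [pow_mul, hz2, one_pow]
      · exfalso
        rw [show 3 * (2 * k + 1) = 2 * (3 * k + 1) + 1 by ring, pow_succ, pow_mul, hz2, one_pow, one_mul] at ha
        rw [ha, orderOf_one] at hz
        omega
    rw [this, mul_one]
  -- a Sylow subgroup of the centraliser
  let T₀ : Sylow 3 ↥H := default
  set T := (T₀ : Subgroup ↥H).map H.subtype with hT
  have hTH : T ≤ H := map_subtype_le _
  have hT27 : Nat.card T = 27 := by
    rw [hT, card_map_of_injective H.subtype_injective]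
    obtain ⟨n, hn⟩ := T₀.2.exists_card_eq
    have hd := (T₀ : Subgroup ↥H).card_subgroup_dvd_card
    rw [hn, hcard] at hd
    have h27 : 27 ∣ 3 ^ n := by
      rw [← hn]
      exact T₀.pow_dvd_card_of_pow_dvd_card (n := 3) (by rw [hcard]; norm_num)
    rw [hn, three_pow_eq hd h27]
    norm_num
  have hTp : IsPGroup 3 T := IsPGroup.of_card (n := 3) (by rw [hT27]; norm_num)
  have hxT : x ∈ T := by
    obtain ⟨S', hS'⟩ := (IsPGroup.of_card (p := 3) (n := 1) (G := zpowers (⟨x, hxH⟩ : ↥H))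
      (by rw [Nat.card_zpowers, ← Subgroup.orderOf_coe]; simpa using hx)).exists_le_sylow
    obtain ⟨k, hk⟩ := MulAction.exists_smul_eq ↥H S' T₀
    refine ⟨⟨x, hxH⟩, ?_, rfl⟩
    have hc : k * ⟨x, hxH⟩ * k⁻¹ = (⟨x, hxH⟩ : ↥H) := Subtype.ext (by
      show (k : G) * x * (k : G)⁻¹ = x
      rw [(hxcen k).eq, mul_inv_cancel_right])
    rw [← hk, SetLike.mem_coe, Sylow.coe_subgroup_smul, ← hc]
    exact smul_mem_pointwise_smul _ (MulAut.conj k) _ (hS' (mem_zpowers _))
  -- it is not abelian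
  have hnab : ¬ ∀ a ∈ T, ∀ b ∈ T, Commute a b := by
    intro hab
    letI : CommGroup (T₀ : Subgroup ↥H) :=
      { (inferInstance : Group (T₀ : Subgroup ↥H)) with
        mul_comm := fun a b => Subtype.ext (Subtype.ext
          (hab _ (mem_map_of_mem _ a.2) _ (mem_map_of_mem _ b.2)).eq) }
    set xH : ↥H := ⟨x, hxH⟩
    have hxc : ∀ c : ↥H, Commute c xH := fun c => Subtype.ext (hxcen c).eq
    have h1 : MonoidHom.transfer (MonoidHom.id (T₀ : Subgroup ↥H)) xH = 1 := by
      have : xH ∈ commutator ↥H := by rw [_root_.commutator_def, hperf]; exact mem_top _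
      exact Abelianization.commutator_subset_ker _ this
    rw [MonoidHom.transfer_eq_pow (MonoidHom.id (T₀ : Subgroup ↥H)) xH fun k g₀ _ => by
      rw [mul_assoc, ← ((hxc g₀).pow_right k).eq, inv_mul_cancel_left]] at h1
    have h2 : orderOf xH ∣ (T₀ : Subgroup ↥H).index := orderOf_dvd_of_pow_eq_one (congrArg Subtype.val h1)
    rw [← Subgroup.orderOf_coe] at h2
    rw [show ((xH : ↥H) : G) = x from rfl, hx] at h2
    exact T₀.not_dvd_index h2
  -- the image in the Mathieu group is abelian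
  have hcommker : ∀ a ∈ T, ∀ b ∈ T, ∃ i, a * b * a⁻¹ * b⁻¹ = x ^ i := by
    intro a ha b hb
    have hK : Nat.card ((T₀ : Subgroup ↥H).map π) ∣ 9 := by
      have hp : IsPGroup 3 ((T₀ : Subgroup ↥H).map π) := T₀.2.map π
      obtain ⟨n, hn⟩ := hp.exists_card_eq
      have hd := ((T₀ : Subgroup ↥H).map π).card_subgroup_dvd_card
      rw [hn, Golay.card_sporM22] at hd
      rw [hn, show 9 = 3 ^ 2 by norm_num]
      exact pow_dvd_pow 3 (three_pow_le hd)
    obtain ⟨gM, hgM⟩ := JankoFour.M22Three.exists_conj_into (K := (T₀ : Subgroup ↥H).map π) (T₀.2.map π)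
    obtain ⟨a₀, ha₀, rfl⟩ := ha
    obtain ⟨b₀, hb₀, rfl⟩ := hb
    have hab : π a₀ * π b₀ = π b₀ * π a₀ := by
      have := JankoFour.M22Three.R_comm (hgM _ (mem_map_of_mem π ha₀)) (hgM _ (mem_map_of_mem π hb₀))
      calc π a₀ * π b₀ = gM⁻¹ * ((gM * π a₀ * gM⁻¹) * (gM * π b₀ * gM⁻¹)) * gM := by group
        _ = π b₀ * π a₀ := by rw [this]; group
    have hc : π (a₀ * b₀ * a₀⁻¹ * b₀⁻¹) = 1 := by
      rw [map_mul, map_mul, map_mul, map_inv, map_inv, hab]; group
    have hmem : a₀ * b₀ * a₀⁻¹ * b₀⁻¹ ∈ (T₀ : Subgroup ↥H) :=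
      mul_mem (mul_mem (mul_mem ha₀ hb₀) (inv_mem ha₀)) (inv_mem hb₀)
    obtain ⟨i, j, hij⟩ := (hker _).1 hc
    refine hpow _ ?_ ⟨i, j, by simpa using hij⟩
    obtain ⟨k, hk⟩ := T₀.2 ⟨_, hmem⟩
    have ho : orderOf (x ^ i * z ^ j) ∣ 3 ^ k := by
      rw [← hij]
      refine orderOf_dvd_of_pow_eq_one ?_
      have := congrArg (fun t : (T₀ : Subgroup ↥H) => ((t : ↥H) : G)) hk
      simpa using this
    have h6 : orderOf (x ^ i * z ^ j) ∣ 6 := orderOf_dvd_of_pow_eq_one (by
      rw [(hxz.pow_pow i j).mul_pow, ← pow_mul, ← pow_mul, show i * 6 = 3 * (2 * i) by ring,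
        show j * 6 = 2 * (3 * j) by ring, pow_mul x 3, pow_mul z 2, hx3, hz2, one_pow, one_pow, one_mul])
    have h3' : orderOf (x ^ i * z ^ j) ∣ 3 := by
      have hcop : Nat.Coprime (orderOf (x ^ i * z ^ j)) 2 :=
        (Nat.Coprime.pow_left k (show Nat.Coprime 3 2 by norm_num)).coprime_dvd_left ho
      exact hcop.dvd_of_dvd_mul_left (show orderOf (x ^ i * z ^ j) ∣ 2 * 3 from h6)
    have := orderOf_dvd_iff_pow_eq_one.1 h3'
    simpa [← hij] using this
  -- its centre
  have hcentre : ∀ c ∈ T, (∀ a ∈ T, Commute c a) → ∃ i, c = x ^ i := by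
    intro c hc hcc
    by_contra hne'
    push Not at hne'
    apply hnab
    set Z := closure ({x, c} : Set G) with hZdef
    have hZT : Z ≤ T := (closure_le _).2 (by rintro a (rfl | rfl) <;> assumption)
    have hlt : zpowers x < Z := by
      refine lt_of_le_of_ne (zpowers_le.2 (subset_closure (by simp))) fun e' => ?_
      obtain ⟨i, hi⟩ := (isOfFinOrder_of_finite x).mem_powers_iff_mem_zpowers.2
        (e' ▸ subset_closure (by simp) : c ∈ zpowers x)
      exact hne' i hi.symm
    obtain ⟨n, hn⟩ := (hTp.to_le hZT).exists_card_eq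
    have h9 : 9 ∣ Nat.card Z := by
      have h1 : 3 < Nat.card Z := by
        by_contra h
        refine hlt.ne (eq_of_le_of_card_ge hlt.le ?_)
        rw [Nat.card_zpowers, hx]
        omega
      rw [hn] at h1 ⊢
      have : 2 ≤ n := by
        by_contra h
        interval_cases n <;> omega
      exact pow_dvd_pow 3 this
    have hZc : ∀ a ∈ Z, ∀ b ∈ T, Commute a b := by
      intro a ha b hb
      induction ha using closure_induction with
      | mem a ha =>
        rcases ha with rfl | rfl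
        · exact (hxcen ⟨b, hTH hb⟩).symm
        · exact hcc b hb
      | one => exact Commute.one_left b
      | mul a a' _ _ h1 h2 => exact h1.mul_left h2
      | inv a _ h1 => exact h1.inv_left
    intro a ha b hb
    by_cases haZ : a ∈ Z
    · exact hZc a haZ b hb
    set W := Z ⊔ zpowers a with hW
    have hWT : W ≤ T := sup_le hZT (zpowers_le.2 ha)
    have hWeq : W = T := by
      refine eq_of_le_of_card_ge hWT ?_
      obtain ⟨m, hm⟩ := (hTp.to_le hWT).exists_card_eq
      have h1 : Nat.card Z < Nat.card W := by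
        refine lt_of_le_of_ne (card_le_of_le le_sup_left) fun e' => haZ ?_
        rw [eq_of_le_of_card_ge (le_sup_left : Z ≤ W) e'.ge]
        exact mem_sup_right (mem_zpowers a)
      have h9' : 9 ≤ Nat.card Z := Nat.le_of_dvd Nat.card_pos h9
      rw [hm] at h1 ⊢
      have : 3 ≤ m := by
        by_contra h
        interval_cases m <;> omega
      rw [hT27]
      exact le_trans (by norm_num) (Nat.pow_le_pow_right (by norm_num) this)
    have hbW : b ∈ W := hWeq ▸ hb
    have hle : W ≤ centralizer ({a} : Set G) := sup_le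
      (fun d hd => mem_centralizer_singleton_iff.2 (hZc d hd a ha).eq)
      (zpowers_le.2 (mem_centralizer_singleton_iff.2 rfl))
    exact (mem_centralizer_singleton_iff.1 (hle hbW)).symm
  -- it is a Sylow subgroup of the group
  have h81 : ¬ 81 ∣ Nat.card G := by
    intro h
    obtain ⟨S', hS'⟩ := hTp.exists_le_sylow
    have hlt : T < (S' : Subgroup G) := by
      refine lt_of_le_of_ne hS' fun e' => ?_
      have h' := S'.pow_dvd_card_of_pow_dvd_card (n := 4) h
      rw [← e', hT27] at h'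
      exact absurd h' (by decide)
    haveI := S'.2.isNilpotent
    have hnt := Group.normalizerCondition_of_isNilpotent (G := ↥(S' : Subgroup G)) (T.subgroupOf (S' : Subgroup G)) (lt_top_iff_ne_top.2 fun e' =>
      hlt.ne (le_antisymm hS' (subgroupOf_eq_top.1 e')))
    obtain ⟨n, hn, hnT⟩ := SetLike.exists_of_lt hnt
    have hnT' : (n : G) ∉ T := hnT
    have hnn : ∀ a : G, a ∈ T → (n : G) * a * (n : G)⁻¹ ∈ T := fun a ha =>
      (mem_normalizer_iff.1 hn ⟨a, hS' ha⟩).1 ha
    obtain ⟨i, hi⟩ := hcentre ((n : G) * x * (n : G)⁻¹) (hnn x hxT) fun a ha => by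
      have hb : (n : G)⁻¹ * a * n ∈ T := by
        have := (mem_normalizer_iff.1 (inv_mem hn) ⟨a, hS' ha⟩).1 ha
        simp only [mem_subgroupOf, coe_mul, InvMemClass.coe_inv, inv_inv] at this
        exact this
      have := (hxcen ⟨_, hTH hb⟩).symm
      calc (n : G) * x * (n : G)⁻¹ * a = (n : G) * (x * ((n : G)⁻¹ * a * n)) * (n : G)⁻¹ := by group
        _ = _ := by rw [this.eq]; group
    -- the automorphism of the centre has order a power of three
    have hnH : (n : G) ∈ H := by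
      obtain ⟨k, hk⟩ := S'.2 n
      have hk' : (n : G) ^ 3 ^ k = 1 := by simpa using congrArg Subtype.val hk
      have hiter : ∀ m : ℕ, (n : G) ^ m * x * ((n : G) ^ m)⁻¹ = x ^ i ^ m := by
        intro m
        induction m with
        | zero => simp
        | succ m ih =>
          calc (n : G) ^ (m + 1) * x * ((n : G) ^ (m + 1))⁻¹
              = (n : G) * ((n : G) ^ m * x * ((n : G) ^ m)⁻¹) * (n : G)⁻¹ := by rw [pow_succ']; group
            _ = x ^ i ^ (m + 1) := by rw [ih, ← conj_pow, hi, ← pow_mul, pow_succ']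
      have h1 := hiter (3 ^ k)
      rw [hk', one_mul, inv_one, mul_one, ← pow_mod_orderOf, hx] at h1
      have h2 : i ^ 3 ^ k % 3 = 1 := by
        have h3' : i ^ 3 ^ k % 3 < 3 := Nat.mod_lt _ (by norm_num)
        interval_cases hh : i ^ 3 ^ k % 3
        · simp at h1
          rw [h1, orderOf_one] at hx; omega
        · rfl
        · exfalso
          have : x = 1 := by
            calc x = x ^ 2 * x⁻¹ := by group
              _ = 1 := by rw [← h1]; group
          rw [this, orderOf_one] at hx; omega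
      have h3' : i % 3 = 1 := by
        rw [Nat.pow_mod] at h2
        have h4 : i % 3 < 3 := Nat.mod_lt _ (by norm_num)
        interval_cases hh : i % 3
        · simp [zero_pow] at h2
        · rfl
        · exfalso
          have hodd : Odd (3 ^ k) := Odd.pow (by decide)
          obtain ⟨m, hm⟩ := hodd
          rw [hm, pow_succ, pow_mul, Nat.mul_mod, Nat.pow_mod] at h2
          norm_num at h2
      refine mem_centralizer_singleton_iff.2 ?_
      rw [← pow_mod_orderOf, hx, h3', pow_one, mul_inv_eq_iff_eq_mul] at hi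
      exact hi
    obtain ⟨T', hT'⟩ : ∃ T' : Subgroup ↥H, T' = (T₀ : Subgroup ↥H) ⊔ zpowers ⟨n, hnH⟩ := ⟨_, rfl⟩
    have hT'p : IsPGroup 3 T' := by
      have hle : T'.map H.subtype ≤ (S' : Subgroup G) := by
        rw [hT', Subgroup.map_sup, MonoidHom.map_zpowers]
        exact sup_le hS' (zpowers_le.2 n.2)
      exact (S'.2.to_le hle).of_equiv (equivMapOfInjective T' H.subtype H.subtype_injective).symm
    have := T₀.3 hT'p (hT' ▸ le_sup_left)
    exact hnT' ⟨⟨n, hnH⟩, this ▸ (hT' ▸ mem_sup_right (mem_zpowers _)), rfl⟩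
  -- the Sylow subgroup of the hypothesis
  have hS0 : ∀ S' : Sylow 3 G, (S' : Subgroup G) = T →
      (center ↥(S' : Subgroup G)).map (S' : Subgroup G).subtype = zpowers x := by
    intro S' hS'
    refine le_antisymm ?_ (zpowers_le.2 ⟨⟨x, hS' ▸ hxT⟩, mem_center_iff.2 fun a =>
      Subtype.ext (hxcen ⟨a, hTH (hS' ▸ a.2)⟩).eq, rfl⟩)
    rintro _ ⟨⟨c, hc⟩, hcc, rfl⟩
    obtain ⟨i, hi⟩ := hcentre c (hS' ▸ hc) fun a ha =>
      (congrArg Subtype.val (mem_center_iff.1 hcc ⟨a, hS' ▸ ha⟩)).symm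
    exact ⟨i, by simp [hi]⟩
  obtain ⟨T₁, hT₁⟩ := hTp.exists_le_sylow
  have hT₁' : (T₁ : Subgroup G) = T := by
    refine (eq_of_le_of_card_ge hT₁ ?_).symm
    obtain ⟨n, hn⟩ := T₁.2.exists_card_eq
    rw [hn, hT27, show 27 = 3 ^ 3 by norm_num]
    refine Nat.pow_le_pow_right (by norm_num) ?_
    by_contra h
    exact h81 ((pow_dvd_pow 3 (show 4 ≤ n by omega)).trans (hn ▸ (T₁ : Subgroup G).card_subgroup_dvd_card))
  obtain ⟨k, hk⟩ := MulAction.exists_smul_eq G T₁ S
  have hmem : ∀ a : G, a ∈ (S : Subgroup G) ↔ k⁻¹ * a * k ∈ T := by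
    intro a
    rw [← hk, Sylow.coe_subgroup_smul, mem_pointwise_smul_iff_inv_smul_mem, ← hT₁', ← map_inv,
      MulAut.smul_def, MulAut.conj_apply, inv_inv]
  have hcenS : (center ↥(S : Subgroup G)).map (S : Subgroup G).subtype = zpowers (k * x * k⁻¹) := by
    refine le_antisymm ?_ (zpowers_le.2 ?_)
    · rintro _ ⟨⟨c, hc⟩, hcc, rfl⟩
      obtain ⟨i, hi⟩ := hcentre _ ((hmem c).1 hc) fun a ha => by
        have h1 : k * a * k⁻¹ ∈ (S : Subgroup G) := (hmem _).2 (by simpa [mul_assoc] using ha)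
        have h2 : c * (k * a * k⁻¹) = k * a * k⁻¹ * c :=
          (congrArg Subtype.val (mem_center_iff.1 hcc ⟨_, h1⟩)).symm
        show k⁻¹ * c * k * a = a * (k⁻¹ * c * k)
        calc k⁻¹ * c * k * a = k⁻¹ * (c * (k * a * k⁻¹)) * k := by group
          _ = _ := by rw [h2]; group
      refine ⟨i, ?_⟩
      show (k * x * k⁻¹) ^ (i : ℤ) = c
      rw [zpow_natCast, conj_pow, ← hi]; group
    · have hkS : k * x * k⁻¹ ∈ (S : Subgroup G) := (hmem _).2 (by simpa [mul_assoc] using hxT)
      refine ⟨⟨_, hkS⟩, mem_center_iff.2 fun a => Subtype.ext ?_, rfl⟩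
      have := (hxcen ⟨_, hTH ((hmem a).1 a.2)⟩).eq
      show (a : G) * (k * x * k⁻¹) = k * x * k⁻¹ * a
      calc (a : G) * (k * x * k⁻¹) = k * ((k⁻¹ * a * k) * x) * k⁻¹ := by group
        _ = _ := by rw [this]; group
  set u := k⁻¹ * g * k with hu
  have hyT : u * x * u⁻¹ ∈ T := by
    have h1 : g * (k * x * k⁻¹) * g⁻¹ ∈ (S : Subgroup G) :=
      hng ⟨_, hcenS.ge (mem_zpowers _), by simp⟩
    have := (hmem _).1 h1
    rwa [show k⁻¹ * (g * (k * x * k⁻¹) * g⁻¹) * k = u * x * u⁻¹ by rw [hu]; group] at this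
  have hyne : ∀ i : ℕ, u * x * u⁻¹ ≠ x ^ i := by
    intro i hi
    apply hne
    rw [hcenS, MonoidHom.map_zpowers]
    have h1 : (MulAut.conj g).toMonoidHom (k * x * k⁻¹) = (k * x * k⁻¹) ^ i := by
      rw [conj_pow, ← hi, hu]
      simp [MulAut.conj_apply]
      group
    refine eq_of_le_of_card_ge (zpowers_le.2 (h1 ▸ pow_mem (mem_zpowers _) i)) ?_
    rw [Nat.card_zpowers, Nat.card_zpowers, MulEquiv.coe_toMonoidHom, MulEquiv.orderOf_eq]
  set y := u * x * u⁻¹ with hy
  have hyx : Commute y x := hxcen ⟨y, hTH hyT⟩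
  have hy3 : y ^ 3 = 1 := by rw [hy, conj_pow, hx3]; group
  -- conjugacy
  have hπord : ∀ a : ↥H, (a : G) ^ 3 = 1 → (∀ i : ℕ, (a : G) ≠ x ^ i) → orderOf (π a) = 3 := by
    intro a ha hai
    refine orderOf_eq_prime ?_ fun h1 => ?_
    · rw [← map_pow, show a ^ 3 = 1 from Subtype.ext (by simpa using ha), map_one]
    · obtain ⟨i, hi⟩ := hpow _ ha ((hker a).1 h1)
      exact hai i hi
  have hconj : ∀ a : G, Commute a x → a ^ 3 = 1 → (∀ i : ℕ, a ≠ x ^ i) →
      ∃ c : G, Commute c x ∧ c * y * c⁻¹ = a := by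
    intro a hax ha3 hai
    set aH : ↥H := ⟨a, mem_centralizer_singleton_iff.2 hax.eq⟩
    set yH : ↥H := ⟨y, hTH hyT⟩
    obtain ⟨m, hm⟩ := isConj_iff.1 (JankoFour.M22Three.conj_three (hπord yH hy3 hyne) (hπord aH ha3 hai))
    obtain ⟨c, rfl⟩ := hsurj m
    have h1 : π (aH⁻¹ * (c * yH * c⁻¹)) = 1 := by
      rw [map_mul, map_inv, map_mul, map_mul, map_inv, hm, inv_mul_cancel]
    have hacy : Commute a ((c : G) * y * (c : G)⁻¹) := by
      obtain ⟨i, j, hij⟩ := (hker _).1 h1
      have h' : (c : G) * y * (c : G)⁻¹ = a * (x ^ i * z ^ j) := by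
        rw [← hij]; simp [aH, yH]
      rw [h']
      exact (Commute.refl a).mul_right ((hax.pow_right i).mul_right ((hzc a hax).pow_right j))
    obtain ⟨i, hi⟩ := hpow (a⁻¹ * ((c : G) * y * (c : G)⁻¹)) (by
      rw [hacy.inv_left.mul_pow, inv_pow, ha3, conj_pow, hy3]; group) (by
      obtain ⟨i, j, hij⟩ := (hker _).1 h1
      exact ⟨i, j, by simpa [aH, yH] using hij⟩)
    rw [inv_mul_eq_iff_eq_mul] at hi
    -- a Sylow subgroup at `a` moves it along its coset
    obtain ⟨S', hS'⟩ := (IsPGroup.of_card (p := 3) (n := 1) (G := zpowers aH) (by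
      rw [Nat.card_zpowers, pow_one, ← Subgroup.orderOf_coe]
      exact orderOf_eq_prime ha3 fun e' => hai 0 (by rw [pow_zero]; exact e'))).exists_le_sylow
    obtain ⟨q, hq⟩ := MulAction.exists_smul_eq ↥H S' T₀
    set a₁ : G := (q : G) * a * (q : G)⁻¹ with ha₁
    have ha₁T : a₁ ∈ T := by
      refine ⟨q * aH * q⁻¹, ?_, rfl⟩
      rw [← hq, SetLike.mem_coe, Sylow.coe_subgroup_smul]
      exact smul_mem_pointwise_smul _ (MulAut.conj q) _ (hS' (mem_zpowers _))
    obtain ⟨b, hbT, hb⟩ : ∃ b ∈ T, ¬ Commute a₁ b := by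
      by_contra hall
      push Not at hall
      obtain ⟨i', hi'⟩ := hcentre a₁ ha₁T hall
      refine hai i' ?_
      calc a = (q : G)⁻¹ * a₁ * q := by rw [ha₁]; group
        _ = (q : G)⁻¹ * (x ^ i' * q) := by rw [hi']; group
        _ = x ^ i' := by rw [← ((hxcen q).pow_right i').eq]; group
    obtain ⟨l, hl⟩ := hcommker b hbT a₁ ha₁T
    have hl3 : l % 3 ≠ 0 := fun h0 => hb (by
      rw [← pow_mod_orderOf, hx, h0, pow_zero, mul_inv_eq_one, mul_inv_eq_iff_eq_mul] at hl
      exact hl.symm)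
    set b' : G := (q : G)⁻¹ * b * q with hb'
    have hqx := hxcen q
    have hb'x : Commute b' x := by
      rw [hb']
      exact (((hqx.inv_left).mul_left (hxcen ⟨b, hTH hbT⟩)).mul_left hqx)
    have hb'a : b' * a * b'⁻¹ = a * x ^ l := by
      have h1 : b * a₁ * b⁻¹ = x ^ l * a₁ := by
        rw [← hl]; group
      calc b' * a * b'⁻¹ = (q : G)⁻¹ * (b * a₁ * b⁻¹) * q := by rw [hb', ha₁]; group
        _ = ((q : G)⁻¹ * x ^ l * q) * a := by rw [h1, ha₁]; group
        _ = a * x ^ l := by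
          rw [← ((hqx.inv_left).pow_right l).eq.symm, inv_mul_cancel_right, (hax.pow_right l).eq]
    have hiter : ∀ m : ℕ, b' ^ m * a * (b' ^ m)⁻¹ = a * x ^ (l * m) := by
      intro m
      induction m with
      | zero => simp
      | succ m ih =>
        calc b' ^ (m + 1) * a * (b' ^ (m + 1))⁻¹ = b' * (b' ^ m * a * (b' ^ m)⁻¹) * b'⁻¹ := by
              rw [pow_succ']; group
          _ = (b' * a * b'⁻¹) * (b' * x ^ (l * m) * b'⁻¹) := by rw [ih]; group
          _ = a * x ^ (l * (m + 1)) := by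
            rw [hb'a, (hb'x.pow_right _).eq, mul_inv_cancel_right, mul_assoc, ← pow_add]
            ring_nf
    obtain ⟨m, hm'⟩ : ∃ m, (l * m) % 3 = i % 3 := by
      have h1 : l % 3 < 3 := Nat.mod_lt _ (by norm_num)
      rcases (by omega : l % 3 = 1 ∨ l % 3 = 2) with h | h
      · exact ⟨i, by rw [Nat.mul_mod, h]; simp⟩
      · exact ⟨2 * i, by rw [Nat.mul_mod, h]; omega⟩
    refine ⟨(b' ^ m)⁻¹ * c, ((hb'x.pow_left m).inv_left).mul_left (hxcen c), ?_⟩
    calc (b' ^ m)⁻¹ * c * y * ((b' ^ m)⁻¹ * c)⁻¹ = (b' ^ m)⁻¹ * (c * y * (c : G)⁻¹) * b' ^ m := by group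
      _ = (b' ^ m)⁻¹ * (b' ^ m * a * (b' ^ m)⁻¹) * b' ^ m := by
        rw [hiter, hi, ← pow_mod_orderOf x i, ← pow_mod_orderOf x (l * m), hx, hm']
      _ = a := by group
  have hyinv : ∀ i : ℕ, y⁻¹ ≠ x ^ i := fun i hi => hyne (2 * i) (by
    rw [pow_mul', ← hi, inv_pow, eq_inv_iff_mul_eq_one, ← pow_succ']
    exact hy3)
  obtain ⟨c, hcx, hcy⟩ := hconj y⁻¹ hyx.inv_left (by rw [inv_pow, hy3, inv_one]) hyinv
  exact ⟨{
    x := x
    y := y
    z := z
    g := u
    hx := hx
    hz := hz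
    z_comm := hzc
    π := π
    π_surj := hsurj
    π_ker := hker
    perfect := by rw [_root_.commutator_def]; exact hperf
    card_C := hcard
    g_x := rfl
    y_comm := hyx
    y_ne := hyne
    conj_y := hconj
    inverted := ⟨u⁻¹ * c * u, by
      calc u⁻¹ * c * u * x * (u⁻¹ * c * u)⁻¹ = u⁻¹ * (c * y * c⁻¹) * u := by rw [hy]; group
        _ = x⁻¹ := by rw [hcy, hy]; group⟩
    sylow := h81
    core := hcore z hz hzc }⟩

/-- The constraint from characteristic 2 type. -/
theorem core_of_charTwo (h2 : Cfsg.IsCharacteristicTwoType G) {z : G} (hz : orderOf z = 2) :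
    centralizer ({z} : Set G) ⊓ centralizer (coreAt z : Set G) ≤ coreAt z := by
  have hN : normalizer (zpowers z : Set G) = centralizer ({z} : Set G) := by
    refine le_antisymm (fun n hn => mem_centralizer_singleton_iff.2 ?_) fun n hn => ?_
    · have h := (mem_normalizer_iff.1 hn z).1 (mem_zpowers z)
      obtain ⟨k, hk⟩ := (isOfFinOrder_of_finite z).mem_powers_iff_mem_zpowers.2 h
      simp only at hk
      rw [← pow_mod_orderOf, hz] at hk
      rcases Nat.mod_two_eq_zero_or_one k with e | e <;> rw [e] at hk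
      · rw [pow_zero, eq_comm, conj_eq_one_iff] at hk
        rw [hk, orderOf_one] at hz; omega
      · rw [pow_one] at hk
        exact (mul_inv_eq_iff_eq_mul.1 hk.symm)
    · refine mem_normalizer_fintype fun a ha => ?_
      obtain ⟨k, rfl⟩ := mem_zpowers_iff.1 ha
      rw [((show Commute n z from mem_centralizer_singleton_iff.1 hn).zpow_right k).eq, mul_inv_cancel_right]
      exact zpow_mem (mem_zpowers z) k
  have h := h2.2 (zpowers z) (IsPGroup.of_card (n := 1) (by rw [Nat.card_zpowers, hz, pow_one]))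
    (fun e => by rw [zpowers_eq_bot] at e; rw [e, orderOf_one] at hz; omega)
  rw [hN] at h
  rintro a ⟨ha, hac⟩
  refine ⟨⟨a, ha⟩, h (mem_centralizer_iff.2 fun q hq => Subtype.ext ?_), rfl⟩
  exact mem_centralizer_iff.1 hac q (mem_map_of_mem _ hq)

end Cfsg.Agent.M22Six
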